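import Cfsg.Agent.Lib.Classical.Derange.Lines

/-!
# Every pair of points is good

If `n k ^ 2 < (2k - 1) ∑ |G_abx|` then most points lie in orbits of length two of `G_ab`; the few others
give an element with large fixed set, and the line structure excludes it.
-/

set_option autoImplicit false
set_option linter.unusedSectionVars false
set_option maxHeartbeats 800000

namespace Cfsg.Agent.Classical.Derange

open Finset MulAction
open scoped _root_.Classical

variable {G Ω : Type*} [Group G] [Finite G] [MulAction G Ω] [Fintype Ω] [Fintype G]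

/-- A pair of points with many short orbits. -/
def Bad (G : Type*) [Group G] [MulAction G Ω] [Fintype Ω] (k : ℕ) (p q : Ω) : Prop :=
  Fintype.card Ω * k * k < (2 * k - 1) * ∑ x, c3 G p q x

theorem bad_conj (h2 : TwoT G Ω) {k : ℕ} {p q p' q' : Ω} (h : p ≠ q) (h' : p' ≠ q') (hb : Bad G k p q) :
    Bad G k p' q' := by
  obtain ⟨g, rfl, rfl⟩ := h2 p q p' q' h h'
  unfold Bad at hb ⊢
  rwa [← Equiv.sum_comp (MulAction.toPerm g) fun x => c3 G (g • p) (g • q) x,
    sum_congr rfl fun x _ => show c3 G (g • p) (g • q) (MulAction.toPerm g x) = c3 G p q x from c3_conj g p q x]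

section Weights

variable {k : ℕ} {a b : Ω} (hk : Nat.card (pst a b : Subgroup G) = k)

include hk

theorem orb_mul (x : Ω) : (orb (pst a b : Subgroup G) x).card * c3 G a b x = k := by
  rw [c3, card_orb_mul, hk]

theorem c3_pos (x : Ω) : 0 < c3 G a b x := Nat.card_pos

theorem c3_half {x : Ω} (hx : x ∉ line G a b) : 2 * c3 G a b x ≤ k := by
  have h := orb_mul hk x
  rw [mem_line_iff_c3, hk] at hx
  rcases hm : (orb (pst a b : Subgroup G) x).card with _ | _ | m
  · rw [hm, zero_mul] at h
    have := hk ▸ (Nat.card_pos (α := (pst a b : Subgroup G)))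
    omega
  · rw [hm] at h; omega
  · rw [hm] at h; rw [← h]; gcongr; omega

theorem c3_big {x : Ω} (hx : 2 * c3 G a b x < k) : 3 * c3 G a b x ≤ k := by
  have h := orb_mul hk x
  by_contra! hc
  have hlt : (orb (pst a b : Subgroup G) x).card < 3 := by
    by_contra! hc'
    have := Nat.mul_le_mul_right (c3 G a b x) hc'
    omega
  interval_cases (orb (pst a b : Subgroup G) x).card <;> omega

theorem not_mem_of_big {x : Ω} {m : ℕ} (hm : 2 ≤ m) (hx : m * c3 G a b x ≤ k) : x ∉ line G a b := fun h => by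
  rw [mem_line_iff_c3, hk] at h
  rw [h] at hx
  have := hk ▸ (Nat.card_pos (α := (pst a b : Subgroup G)))
  nlinarith

/-- Disjoint sets of long orbits are small. -/
theorem count_lt₂ (hbad : Bad G k a b) {s t : Finset Ω} {m l : ℕ} (hm : 2 ≤ m) (hl : 2 ≤ l)
    (hs : ∀ x ∈ s, m * c3 G a b x ≤ k) (ht : ∀ x ∈ t, l * c3 G a b x ≤ k) (hd : Disjoint s t) :
    l * s.card * ((m - 2) * k + 1) + m * t.card * ((l - 2) * k + 1) <
      m * l * (line G a b).card * (k - 1) := by
  have hk1 : 1 ≤ k := hk ▸ Nat.card_pos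
  have hsum : 0 < ∑ x : Ω, ((2 * (k : ℤ) - 1) * c3 G a b x - k * k) := by
    have h : ((Fintype.card Ω * k * k : ℕ) : ℤ) < (((2 * k - 1) * ∑ x, c3 G a b x : ℕ) : ℤ) := by
      exact_mod_cast hbad
    rw [Nat.cast_mul _ (∑ x, c3 G a b x), Nat.cast_sub (by omega), Nat.cast_sum, mul_sum] at h
    push_cast at h
    rw [sum_sub_distrib, sum_const, card_univ, nsmul_eq_mul]
    linarith
  set w : Ω → ℤ := fun x => (2 * (k : ℤ) - 1) * c3 G a b x - k * k with hw
  have hB : ∑ x ∈ line G a b, w x = (line G a b).card * ((k : ℤ) * (k - 1)) := by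
    rw [← nsmul_eq_mul, ← sum_const]
    refine sum_congr rfl fun x hx => ?_
    rw [mem_line_iff_c3, hk] at hx
    simp only [hw, hx]
    ring
  have bound : ∀ {u : Finset Ω} {i : ℕ}, 2 ≤ i → (∀ x ∈ u, i * c3 G a b x ≤ k) →
      (i : ℤ) * ∑ x ∈ u, w x ≤ -((u.card : ℤ) * (k * (((i : ℤ) - 2) * k + 1))) := by
    intro u i hi hu
    rw [mul_sum, ← mul_neg, ← nsmul_eq_mul, ← sum_const]
    refine sum_le_sum fun x hx => ?_
    have h : ((i : ℤ) * c3 G a b x) ≤ k := by exact_mod_cast hu x hx
    have h0 : (0 : ℤ) ≤ 2 * k - 1 := by omega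
    simp only [hw]
    nlinarith [mul_le_mul_of_nonneg_left h h0]
  have hsB : Disjoint (line G a b) (s ∪ t) := disjoint_left.mpr fun x hx hx' => by
    rcases mem_union.mp hx' with h | h
    · exact not_mem_of_big hk hm (hs x h) hx
    · exact not_mem_of_big hk hl (ht x h) hx
  have hrest : ∑ x ∈ univ \ (line G a b ∪ (s ∪ t)), w x ≤ 0 := sum_nonpos fun x hx => by
    have hx' : x ∉ line G a b := fun h => (mem_sdiff.mp hx).2 (mem_union_left _ h)
    have h : ((2 : ℤ) * c3 G a b x) ≤ k := by exact_mod_cast c3_half hk hx'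
    simp only [hw]
    nlinarith [Int.natCast_nonneg (c3 G a b x)]
  rw [← sum_sdiff (subset_univ (line G a b ∪ (s ∪ t))), sum_union hsB, sum_union hd, hB] at hsum
  have h1 := bound hm hs
  have h2 := bound hl ht
  have hkpos : (0 : ℤ) < k := by exact_mod_cast hk1
  have hml : (0 : ℤ) < m * l := by exact_mod_cast Nat.mul_pos (by omega : 0 < m) (by omega : 0 < l)
  have e : (0 : ℤ) < (m * l : ℤ) * ((line G a b).card * ((k : ℤ) * (k - 1)) + (∑ x ∈ s, w x + ∑ x ∈ t, w x)) :=
    mul_pos hml (by linarith)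
  have e1 := mul_le_mul_of_nonneg_left h1 (show (0 : ℤ) ≤ l by omega)
  have e2 := mul_le_mul_of_nonneg_left h2 (show (0 : ℤ) ≤ m by omega)
  have fin : (k : ℤ) * ((l * s.card * (((m : ℤ) - 2) * k + 1)) + m * t.card * (((l : ℤ) - 2) * k + 1)) <
      (k : ℤ) * ((m * l : ℤ) * (line G a b).card * ((k : ℤ) - 1)) := by linarith
  have fin' := lt_of_mul_lt_mul_left fin hkpos.le
  zify [hk1, hm, hl]
  exact fin'

theorem count_lt (hbad : Bad G k a b) {s : Finset Ω} {m : ℕ} (hm : 2 ≤ m) (hs : ∀ x ∈ s, m * c3 G a b x ≤ k) :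
    s.card * ((m - 2) * k + 1) < m * (line G a b).card * (k - 1) := by
  have h := count_lt₂ hk hbad (t := ∅) hm le_rfl hs (by simp) (disjoint_empty_right _)
  simp only [card_empty, mul_zero, zero_mul, add_zero] at h
  nlinarith

/-- The orbit of a point is a set of points with the same weight. -/
theorem orb_weight {x y : Ω} (hy : y ∈ orb (pst a b : Subgroup G) x) : c3 G a b y = c3 G a b x :=
  card_inf_of_orb hy

theorem three_le_orb {x : Ω} (hx : 3 * c3 G a b x ≤ k) : 3 ≤ (orb (pst a b : Subgroup G) x).card := by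
  have h := orb_mul hk x
  by_contra! hc
  have hpos : 0 < c3 G a b x := Nat.card_pos
  nlinarith

/-- The number of points in orbits of length three is a multiple of three. -/
theorem three_dvd {L : Finset Ω} (hinv : ∀ x ∈ L, orb (pst a b : Subgroup G) x ⊆ L)
    (hL : ∀ x ∈ L, 3 * c3 G a b x = k) : 3 ∣ L.card := by
  have hself : ∀ x : Ω, x ∈ orb (pst a b : Subgroup G) x := fun x => mem_orb.mpr ⟨1, one_mem _, one_smul _ _⟩
  rw [card_eq_sum_card_image (fun x => orb (pst a b : Subgroup G) x) L]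
  refine dvd_sum fun o ho => ?_
  obtain ⟨x, hx, rfl⟩ := mem_image.mp ho
  have e : L.filter (fun y => orb (pst a b : Subgroup G) y = orb (pst a b : Subgroup G) x) = orb (pst a b : Subgroup G) x := by
    ext y
    rw [mem_filter]
    exact ⟨fun h => h.2 ▸ hself y, fun h => ⟨hinv x hx h, orb_eq h⟩⟩
  rw [e]
  have h := orb_mul hk x
  rw [show k = 3 * c3 G a b x from (hL x hx).symm] at h
  rw [Nat.eq_of_mul_eq_mul_right Nat.card_pos h]

end Weights

section Structure

variable [FaithfulSMul G Ω] (h2 : TwoT G Ω) {k : ℕ}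
  (hk : ∀ p q : Ω, p ≠ q → Nat.card (pst p q : Subgroup G) = k) {a b : Ω} (hab : a ≠ b)

include h2 hk hab

/-- The lines joining a moved point to the line `ab` consist of points with the same stabiliser. -/
theorem exists_plane {x : Ω} (hx : x ∉ line G a b) :
    ∃ U : Finset Ω, x ∈ U ∧ U.card = (line G a b).card * ((line G a b).card - 2) + 1 ∧
      Disjoint (line G a b) U ∧
      ∀ y ∈ U, (pst a b : Subgroup G) ⊓ stabilizer G y = (pst a b : Subgroup G) ⊓ stabilizer G x := by
  let f : Ω → Finset Ω := fun c => ((line G c x).erase c).erase x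
  have hne : ∀ c ∈ line G a b, c ≠ x := fun c hc e => hx (e ▸ hc)
  have hcard : ∀ c ∈ line G a b, (f c).card = (line G a b).card - 2 := fun c hc => by
    show (((line G c x).erase c).erase x).card = _
    rw [card_erase_of_mem (mem_erase.mpr ⟨(hne c hc).symm, right_mem_line c x⟩), card_erase_of_mem (left_mem_line c x),
      card_line_eq h2 (hne c hc) hab]
    omega
  have key : ∀ c ∈ line G a b, ∀ y ∈ f c, y ∉ line G a b ∧
      (pst c y : Subgroup G) = pst c x ∧ y ≠ x := by
    intro c hc y hy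
    simp only [f, mem_erase] at hy
    obtain ⟨hyx, hyc, hy⟩ := hy
    refine ⟨fun hyB => hx ?_, pst_eq_of_mem h2 (hne c hc) (left_mem_line c x) hy (Ne.symm hyc), hyx⟩
    have e := pst_eq_of_mem h2 (hne c hc) (left_mem_line c x) hy (Ne.symm hyc)
    have e' := pst_eq_of_mem h2 hab hc hyB (Ne.symm hyc)
    exact mem_line.mpr fun g hg => (mem_pst.mp ((e'.symm.trans e) ▸ hg)).2
  have hdisj : ((line G a b : Finset Ω) : Set Ω).PairwiseDisjoint f := by
    intro c hc c' hc' hcc
    refine disjoint_left.mpr fun y hy hy' => hx ?_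
    obtain ⟨-, e, hyx⟩ := key c hc y hy
    obtain ⟨-, e', -⟩ := key c' hc' y hy'
    -- `pst x y` is both `pst c x` and `pst c' x`, hence equals `pst c c'`
    have h1 : (pst c x : Subgroup G) = pst x y := Subgroup.eq_of_le_of_card_ge
      (fun g hg => mem_pst.mpr ⟨(mem_pst.mp hg).2, (mem_pst.mp (e.symm ▸ hg)).2⟩)
      (by rw [hk _ _ (hne c hc), hk _ _ hyx.symm])
    have h1' : (pst c' x : Subgroup G) = pst x y := Subgroup.eq_of_le_of_card_ge
      (fun g hg => mem_pst.mpr ⟨(mem_pst.mp hg).2, (mem_pst.mp (e'.symm ▸ hg)).2⟩)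
      (by rw [hk _ _ (hne c' hc'), hk _ _ hyx.symm])
    have h2' : (pst c x : Subgroup G) = pst c c' := Subgroup.eq_of_le_of_card_ge
      (fun g hg => mem_pst.mpr ⟨(mem_pst.mp hg).1, (mem_pst.mp ((h1.trans h1'.symm) ▸ hg)).1⟩)
      (by rw [hk _ _ (hne c hc), hk _ _ hcc])
    have h3 := pst_eq_of_mem h2 hab hc hc' hcc
    exact mem_line.mpr fun g hg => (mem_pst.mp ((h2'.trans h3).symm ▸ hg)).2
  refine ⟨insert x ((line G a b).biUnion f), mem_insert_self _ _, ?_, ?_, ?_⟩
  · rw [card_insert_of_notMem, card_biUnion hdisj, sum_congr rfl hcard, sum_const, smul_eq_mul]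
    intro h
    obtain ⟨c, hc, hxc⟩ := mem_biUnion.mp h
    exact (key c hc x hxc).2.2 rfl
  · refine disjoint_left.mpr fun y hyB hy => ?_
    rcases mem_insert.mp hy with rfl | hy
    · exact hx hyB
    · obtain ⟨c, hc, hyc⟩ := mem_biUnion.mp hy
      exact (key c hc y hyc).1 hyB
  · intro y hy
    rcases mem_insert.mp hy with rfl | hy
    · rfl
    obtain ⟨c, hc, hyc⟩ := mem_biUnion.mp hy
    obtain ⟨-, e, -⟩ := key c hc y hyc
    ext g
    simp only [Subgroup.mem_inf, mem_stabilizer_iff]
    refine and_congr_right fun hg => ?_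
    have hgc := mem_line.mp hc g hg
    constructor
    · intro h
      exact (mem_pst.mp (e ▸ mem_pst.mpr ⟨hgc, h⟩)).2
    · intro h
      exact (mem_pst.mp (e.symm ▸ mem_pst.mpr ⟨hgc, h⟩)).2

/-- A point in an orbit of length at least four lies in a seven-point plane with all long orbits. -/
theorem four_plane (hk3 : 3 ≤ k) (hbad : Bad G k a b) {x : Ω} (hx : 4 * c3 G a b x ≤ k) :
    4 * c3 G a b x = k ∧ 4 < k ∧
      ∀ y, 2 * c3 G a b y < k → (pst a b : Subgroup G) ⊓ stabilizer G y = (pst a b : Subgroup G) ⊓ stabilizer G x := by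
  have hK := hk a b hab
  obtain ⟨U, hxU, hUcard, hUd, hUstab⟩ := exists_plane h2 hk hab (not_mem_of_big hK (by norm_num) hx)
  have hUw : ∀ y ∈ U, c3 G a b y = c3 G a b x := fun y hy => by unfold c3; rw [hUstab y hy]
  set f := (line G a b).card with hf
  have hf2 : 2 ≤ f := two_le_line hab
  have hU : U.card * (2 * k + 1) < 4 * f * (k - 1) := count_lt (m := 4) hK hbad (by norm_num) fun y hy => by
    rw [hUw y hy]; exact hx
  rw [hUcard] at hU
  set t := (orb (pst a b : Subgroup G) x).card with ht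
  have htc := orb_mul hK x
  have ht4 : 4 ≤ t := by
    by_contra! hc
    have hpos : 0 < c3 G a b x := Nat.card_pos
    nlinarith
  have horb : t * ((t - 2) * k + 1) < t * f * (k - 1) :=
    count_lt hK hbad (by omega) fun y hy => by rw [orb_weight hK hy, htc]
  have hk1 : k - 1 + 1 = k := by omega
  have horb' : (t - 2) * k + 1 < f * (k - 1) := by
    rw [mul_assoc] at horb; exact Nat.lt_of_mul_lt_mul_left horb
  have hf3 : f = 3 := by
    rcases Nat.lt_or_ge f 3 with h | h
    · exfalso
      have : f = 2 := by omega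
      rw [this] at horb'
      have : 2 * k ≤ (t - 2) * k := Nat.mul_le_mul_right _ (by omega)
      omega
    · by_contra hne
      have h4 : 4 ≤ f := by omega
      have : f * (f - 2) + 1 ≥ 2 * f + 1 := by
        have : 2 ≤ f - 2 := by omega
        nlinarith
      have h6 : (2 * f + 1) * (2 * k + 1) ≤ (f * (f - 2) + 1) * (2 * k + 1) := Nat.mul_le_mul_right _ this
      nlinarith
  rw [hf3] at horb' hUcard hU
  have ht' : t = 4 := by
    by_contra hne
    have : 3 * k ≤ (t - 2) * k := Nat.mul_le_mul_right _ (by omega)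
    omega
  rw [ht'] at horb'
  refine ⟨(ht.symm.trans ht') ▸ htc, by omega, fun y hy => ?_⟩
  have hyo : y ∈ orb (pst a b : Subgroup G) x := by
    by_contra hy'
    have hd : Disjoint (orb (pst a b : Subgroup G) x) (orb (pst a b : Subgroup G) y) :=
      disjoint_left.mpr fun z hz hz' => hy' (by
        rw [← orb_eq hz, orb_eq hz']; exact mem_orb.mpr ⟨1, one_mem _, one_smul _ _⟩)
    have hy3 := c3_big hK hy
    have h := count_lt₂ hK hbad (m := 4) (l := 3) (by norm_num) (by norm_num)
      (fun z hz => by rw [orb_weight hK hz]; exact hx) (fun z hz => by rw [orb_weight hK hz]; exact hy3) hd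
    rw [← ht, ht', ← hf, hf3] at h
    have := three_le_orb hK hy3
    nlinarith
  have hsub : U ⊆ univ.filter (fun z => 2 * c3 G a b z < k) := fun z hz => mem_filter.mpr ⟨mem_univ _, by
    rw [hUw z hz]; omega⟩
  -- the plane is the whole orbit
  have hUorb : U = orb (pst a b : Subgroup G) x := by
    refine eq_of_subset_of_card_le (fun z hz => ?_) (by rw [hUcard, ← ht, ht'])
    by_contra hz'
    have hd : Disjoint (orb (pst a b : Subgroup G) x) (orb (pst a b : Subgroup G) z) :=
      disjoint_left.mpr fun u hu hu' => hz' (by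
        rw [← orb_eq hu, orb_eq hu']; exact mem_orb.mpr ⟨1, one_mem _, one_smul _ _⟩)
    have hz3 : 3 * c3 G a b z ≤ k := by rw [hUw z hz]; omega
    have h := count_lt₂ hK hbad (m := 4) (l := 3) (by norm_num) (by norm_num)
      (fun u hu => by rw [orb_weight hK hu]; exact hx) (fun u hu => by rw [orb_weight hK hu]; exact hz3) hd
    rw [← ht, ht', ← hf, hf3] at h
    have := three_le_orb hK hz3
    nlinarith
  exact hUstab y (hUorb ▸ hyo)

theorem no_four (hk3 : 3 ≤ k) (hbad : Bad G k a b) {x : Ω} : ¬ 4 * c3 G a b x ≤ k := by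
  intro hx
  have hK := hk a b hab
  obtain ⟨hxc, hk4, hbig⟩ := four_plane h2 hk hab hk3 hbad hx
  have hxB : x ∉ line G a b := not_mem_of_big hK (by norm_num) hx
  have hax : a ≠ x := fun e => hxB (e ▸ left_mem_line a b)
  have esym : (pst a x : Subgroup G) ⊓ stabilizer G b = (pst a b : Subgroup G) ⊓ stabilizer G x := by
    simp only [pst]; ac_rfl
  obtain ⟨-, -, hbig'⟩ := four_plane h2 hk hax hk3 (bad_conj h2 hab hax hbad) (x := b)
    (by unfold c3; rw [esym]; exact hx)
  set Q := (pst a b : Subgroup G) ⊓ stabilizer G x with hQdef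
  have hQ : 4 * Nat.card Q = k := hxc
  have hfix : ∀ w : Ω, ∀ g ∈ Q, g • w = w := by
    intro w g hg
    by_cases h1 : 2 * c3 G a b w < k
    · have hg' : g ∈ (pst a b : Subgroup G) ⊓ stabilizer G w := (hbig w h1).symm ▸ hg
      exact mem_stabilizer_iff.mp hg'.2
    by_cases h1' : 2 * c3 G a x w < k
    · have hg' : g ∈ (pst a x : Subgroup G) ⊓ stabilizer G w := (hbig' w h1').symm ▸ (esym.symm ▸ hg)
      exact mem_stabilizer_iff.mp hg'.2
    by_cases hwa : w = a
    · exact hwa ▸ (mem_pst.mp hg.1).1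
    have eb : (pst a w : Subgroup G) ⊓ stabilizer G b = (pst a b : Subgroup G) ⊓ stabilizer G w := by
      simp only [pst]; ac_rfl
    have ex : (pst a w : Subgroup G) ⊓ stabilizer G x = (pst a x : Subgroup G) ⊓ stabilizer G w := by
      simp only [pst]; ac_rfl
    have hb := card_inf_bound (inf_le_left : (pst a w : Subgroup G) ⊓ stabilizer G b ≤ _)
      (inf_le_left : (pst a w : Subgroup G) ⊓ stabilizer G x ≤ _)
    rw [hk a w (Ne.symm hwa), eb, ex] at hb
    set R := ((pst a b : Subgroup G) ⊓ stabilizer G w) ⊓ ((pst a x : Subgroup G) ⊓ stabilizer G w) with hR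
    have hRQ : R ≤ Q := fun r hr => ⟨hr.1.1, (mem_stabilizer_iff.mpr (mem_pst.mp hr.2.1).2)⟩
    have e : R = Q := by
      refine Subgroup.eq_of_le_of_card_ge hRQ ?_
      unfold c3 at h1 h1'
      push Not at h1 h1'
      have hkk := Nat.mul_le_mul h1 h1'
      nlinarith
    exact mem_stabilizer_iff.mp ((e.symm ▸ hg : g ∈ R)).1.2
  have : Q = ⊥ := (Subgroup.eq_bot_iff_forall _).mpr fun g hg =>
    eq_of_smul_eq_smul fun w : Ω => by rw [hfix w g hg, one_smul]
  rw [this, Subgroup.card_bot] at hQ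
  omega

end Structure

theorem twoT_map {G' : Type*} [Group G'] [MulAction G' Ω] (φ : G →* G') (hφ : ∀ g (x : Ω), φ g • x = g • x)
    (h2 : TwoT G Ω) : TwoT G' Ω := fun a b c d hab hcd => by
  obtain ⟨g, h1, h2⟩ := h2 a b c d hab hcd
  exact ⟨φ g, (hφ g a).trans h1, (hφ g b).trans h2⟩

theorem preprimitive_of_twoT {H : Type*} [Group H] [MulAction H Ω] (h : TwoT H Ω) : IsPreprimitive H Ω := by
  refine isPreprimitive_of_is_two_pretransitive (is_two_pretransitive_iff.mpr ?_)
  exact fun {a b c d} hab hcd => h a b c d hab hcd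

/-- No pair is bad when the two-point stabilisers have order at least three. -/
theorem not_bad [FaithfulSMul G Ω] (h2 : TwoT G Ω) (hn : 7 ≤ Fintype.card Ω) {k : ℕ}
    (hk : ∀ p q : Ω, p ≠ q → Nat.card (pst p q : Subgroup G) = k) (hk3 : 3 ≤ k) {a b : Ω} (hab : a ≠ b) :
    ¬ Bad G k a b := by
  intro hbad
  have hK := hk a b hab
  by_cases hshort : ∀ w, k ≤ 2 * c3 G a b w
  · have := short_le_two h2 hab hk fun p q w hpq => by
      obtain ⟨g, rfl, rfl⟩ := h2 a b p q hab hpq
      rw [← smul_inv_smul g w, c3_conj]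
      exact hshort _
    omega
  push Not at hshort
  obtain ⟨x, hx⟩ := hshort
  set L := univ.filter (fun y => 2 * c3 G a b y < k) with hLdef
  have hL3 : ∀ y ∈ L, 3 * c3 G a b y = k := fun y hy => by
    have h := (mem_filter.mp hy).2
    have h3 := c3_big hK h
    have := no_four h2 hk hab hk3 hbad (x := y)
    have htc := orb_mul hK y
    by_contra hne
    have ht : 4 ≤ (orb (pst a b : Subgroup G) y).card := by
      by_contra! hc
      interval_cases (orb (pst a b : Subgroup G) y).card <;> omega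
    nlinarith
  have hinv : ∀ y ∈ L, orb (pst a b : Subgroup G) y ⊆ L := fun y hy z hz =>
    mem_filter.mpr ⟨mem_univ _, by rw [orb_weight hK hz]; exact (mem_filter.mp hy).2⟩
  have hdvd := three_dvd hK hinv hL3
  have hxL : x ∈ L := mem_filter.mpr ⟨mem_univ _, hx⟩
  have hxc := hL3 x hxL
  have hcount : L.card * ((3 - 2) * k + 1) < 3 * (line G a b).card * (k - 1) :=
    count_lt hK hbad (by norm_num) fun y hy => (hL3 y hy).le
  obtain ⟨U, -, hUcard, hUd, hUstab⟩ := exists_plane h2 hk hab (not_mem_of_big hK (by norm_num) hxc.le)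
  have hUL : U ⊆ L := fun y hy => mem_filter.mpr ⟨mem_univ _, by
    unfold c3; rw [hUstab y hy]; exact hx⟩
  have hUle := card_le_card hUL
  rw [hUcard] at hUle
  set f := (line G a b).card with hf
  have hf2 : 2 ≤ f := two_le_line hab
  obtain ⟨k', hk'⟩ : ∃ k', k = k' + 1 := ⟨k - 1, by omega⟩
  have hLlt : L.card < 3 * f := by
    rw [hk', Nat.add_sub_cancel] at hcount
    by_contra! hc
    have := Nat.mul_le_mul_right (k' + 1 + 1) hc
    nlinarith
  have hf4 : f ≤ 4 := by
    by_contra! hc
    have : 3 ≤ f - 2 := by omega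
    nlinarith
  -- an element of order three
  haveI : Fact (Nat.Prime 3) := ⟨Nat.prime_three⟩
  obtain ⟨⟨g, hgK⟩, hg3⟩ := exists_prime_orderOf_dvd_card' (G := (pst a b : Subgroup G)) 3
    (by rw [hK]; exact ⟨_, hxc.symm⟩)
  rw [Subgroup.orderOf_mk] at hg3
  have hg1 : g ≠ 1 := fun e => by rw [e, orderOf_one] at hg3; omega
  have hfixL : ∀ z : Ω, z ∉ L → g • z = z := by
    intro z hz
    have h1 : k ≤ 2 * c3 G a b z := not_lt.mp fun h => hz (mem_filter.mpr ⟨mem_univ _, h⟩)
    have htc := orb_mul hK z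
    by_contra hne
    have hgz : g • (g • z) ≠ z := fun e => by
      have h3 : g • (g • (g • z)) = z := by
        rw [← mul_smul, ← mul_smul, show g * g * g = 1 by rw [← pow_three', ← hg3, pow_orderOf_eq_one], one_smul]
      rw [e] at h3
      exact hne h3
    have h3 : ({z, g • z, g • (g • z)} : Finset Ω) ⊆ orb (pst a b : Subgroup G) z := by
      intro u hu
      simp only [mem_insert, Finset.mem_singleton] at hu
      rcases hu with rfl | rfl | rfl
      · exact mem_orb.mpr ⟨1, one_mem _, one_smul _ _⟩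
      · exact mem_orb.mpr ⟨g, hgK, rfl⟩
      · exact mem_orb.mpr ⟨g * g, mul_mem hgK hgK, mul_smul _ _ _⟩
    have h4 := card_le_card h3
    rw [card_eq_three.mpr ⟨_, _, _, Ne.symm hne, Ne.symm hgz, fun e => hne (smul_left_cancel g e).symm, rfl⟩] at h4
    have := Nat.mul_le_mul_right (c3 G a b z) h4
    omega
  have hnL : L.card ≤ Fintype.card Ω := card_le_univ _
  rcases Nat.lt_or_ge f 3 with hf3 | hf3
  · -- a three-cycle
    have hL : L.card = 3 := by
      have : 0 < L.card := card_pos.mpr ⟨x, hxL⟩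
      omega
    set σ : Equiv.Perm Ω := MulAction.toPermHom G Ω g with hσ
    have hσ1 : σ ≠ 1 := fun e => hg1 (eq_of_smul_eq_smul fun z : Ω => by
      rw [one_smul]; exact congrFun (congrArg DFunLike.coe e) z)
    have hsupp : σ.support ⊆ L := fun z hz => by
      by_contra hzL
      exact Equiv.Perm.mem_support.mp hz (hfixL z hzL)
    have h3cyc : σ.IsThreeCycle := by
      refine card_support_eq_three_iff.mp (le_antisymm ((card_le_card hsupp).trans_eq hL) ?_)
      have h2' := Equiv.Perm.two_le_card_support_of_ne_one hσ1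
      by_contra hlt
      obtain ⟨u, v, huv, e⟩ := Equiv.Perm.card_support_eq_two.mp (by omega : σ.support.card = 2)
      refine hσ1 ?_
      have h3 : σ ^ 3 = 1 := by rw [hσ, ← map_pow, ← hg3, pow_orderOf_eq_one, map_one]
      have h2'' : σ * σ = 1 := by rw [e, Equiv.swap_mul_self]
      rw [pow_three, h2'', mul_one] at h3
      exact h3
    have halt : alternatingGroup Ω ≤ (MulAction.toPermHom G Ω).range :=
      Equiv.Perm.alternatingGroup_le_of_isPreprimitive_of_isThreeCycle_mem
        (preprimitive_of_twoT (twoT_map (MulAction.toPermHom G Ω).rangeRestrict (fun _ _ => rfl) h2)) h3cyc ⟨g, rfl⟩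
    have hxB := not_mem_of_big hK (by norm_num) hxc.le
    obtain ⟨w, hw⟩ : ∃ w, w ∈ univ \ (L ∪ {a, b}) := by
      refine card_pos.mp ?_
      rw [card_sdiff_of_subset (subset_univ _), card_univ]
      have : (L ∪ {a, b}).card ≤ 5 := (card_union_le _ _).trans (by rw [hL, card_pair hab])
      omega
    obtain ⟨v, hv⟩ : ∃ v, v ∈ univ \ ({a, b, x, w} : Finset Ω) := by
      refine card_pos.mp ?_
      rw [card_sdiff_of_subset (subset_univ _), card_univ]
      have : ({a, b, x, w} : Finset Ω).card ≤ 4 := card_le_four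
      omega
    simp only [mem_sdiff, mem_union, mem_insert, Finset.mem_singleton, not_or, mem_univ, true_and] at hw hv
    obtain ⟨hwL, hwa, hwb⟩ := hw
    obtain ⟨hva, hvb, hvx, hvw⟩ := hv
    have hxw : x ≠ w := fun e => hwL (e ▸ hxL)
    have hxa : x ≠ a := fun e => hxB (by rw [e]; exact left_mem_line a b)
    have hxb : x ≠ b := fun e => hxB (by rw [e]; exact right_mem_line a b)
    have hmem : Equiv.swap v w * Equiv.swap x v ∈ alternatingGroup Ω := by
      rw [Equiv.Perm.mem_alternatingGroup, map_mul, Equiv.Perm.sign_swap hvw, Equiv.Perm.sign_swap (Ne.symm hvx)]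
      rfl
    obtain ⟨h, hh⟩ := halt hmem
    have happ : ∀ z, h • z = (Equiv.swap v w * Equiv.swap x v) z := fun z => by rw [← hh]; rfl
    have hh' : h ∈ (pst a b : Subgroup G) := mem_pst.mpr ⟨by
      rw [happ, Equiv.Perm.mul_apply, Equiv.swap_apply_of_ne_of_ne hxa.symm (Ne.symm hva),
        Equiv.swap_apply_of_ne_of_ne (Ne.symm hva) (Ne.symm hwa)], by
      rw [happ, Equiv.Perm.mul_apply, Equiv.swap_apply_of_ne_of_ne hxb.symm (Ne.symm hvb),
        Equiv.swap_apply_of_ne_of_ne (Ne.symm hvb) (Ne.symm hwb)]⟩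
    refine hwL (hinv x hxL (mem_orb.mpr ⟨h, hh', ?_⟩))
    rw [happ, Equiv.Perm.mul_apply, Equiv.swap_apply_left, Equiv.swap_apply_left]
  · -- large fixed sets
    have hb1 := fixed_bound h2 hab (H := Subgroup.zpowers g) (S := univ \ L)
      (fun e => hg1 (Subgroup.zpowers_eq_bot.mp e)) fun z hz u hu => by
        obtain ⟨i, rfl⟩ := Subgroup.mem_zpowers_iff.mp hu
        exact mem_stabilizer_iff.mp (zpow_mem (mem_stabilizer_iff.mpr (hfixL z (mem_sdiff.mp hz).2)) i)
    rw [card_sdiff_of_subset (subset_univ _), card_univ, ← hf] at hb1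
    by_cases hQ : (pst a b : Subgroup G) ⊓ stabilizer G x = ⊥
    · have hc1 : c3 G a b x = 1 := by unfold c3; rw [hQ, Subgroup.card_bot]
      have hk3' : k = 3 := by omega
      rw [hk3'] at hcount
      interval_cases f <;> omega
    · have hb2 := fixed_bound h2 hab hQ (S := line G a b ∪ U) fun z hz u hu => by
        rcases mem_union.mp hz with h | h
        · exact mem_line.mp h u hu.1
        · exact mem_stabilizer_iff.mp ((hUstab z h).symm ▸ hu : u ∈ (pst a b : Subgroup G) ⊓ stabilizer G z).2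
      rw [card_union_of_disjoint hUd, hUcard, ← hf] at hb2
      interval_cases f <;> omega

end Cfsg.Agent.Classical.Derange
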