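import Cfsg.Agent.Lib.Classical.Derange.Pairs

/-!
# Lines of a two-transitive group and short suborbits

The fixed points of a two-point stabiliser form the lines of a linear space.  A two-transitive group
in which every three-point stabiliser has index at most two in each of its two-point stabilisers has
two-point stabilisers of order at most two.
-/

set_option autoImplicit false
set_option linter.unusedSectionVars false

namespace Cfsg.Agent.Classical.Derange

open Finset MulAction
open scoped _root_.Classical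

variable {G Ω : Type*} [Group G] [Finite G] [MulAction G Ω] [Fintype Ω] [Fintype G]

/-- The line through two points. -/
noncomputable def line (G : Type*) [Group G] [MulAction G Ω] (p q : Ω) : Finset Ω :=
  univ.filter fun z => ∀ g ∈ (pst p q : Subgroup G), g • z = z

theorem mem_line {p q z : Ω} : z ∈ line G p q ↔ ∀ g ∈ (pst p q : Subgroup G), g • z = z := by simp [line]

theorem left_mem_line (p q : Ω) : p ∈ line G p q := mem_line.mpr fun _ hg => (mem_pst.mp hg).1

theorem right_mem_line (p q : Ω) : q ∈ line G p q := mem_line.mpr fun _ hg => (mem_pst.mp hg).2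

theorem pst_eq_of_mem (h2 : TwoT G Ω) {p q x y : Ω} (hpq : p ≠ q) (hx : x ∈ line G p q) (hy : y ∈ line G p q)
    (hxy : x ≠ y) : (pst x y : Subgroup G) = pst p q :=
  (Subgroup.eq_of_le_of_card_ge (fun g hg => mem_pst.mpr ⟨mem_line.mp hx g hg, mem_line.mp hy g hg⟩)
    (card_pst_eq h2 hxy hpq).le).symm

theorem mem_line_iff_c3 {p q z : Ω} : z ∈ line G p q ↔ c3 G p q z = Nat.card (pst p q : Subgroup G) := by
  rw [mem_line]
  constructor
  · intro h
    rw [c3, inf_eq_left.mpr fun g hg => mem_stabilizer_iff.mpr (h g hg)]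
  · intro h g hg
    have e := Subgroup.eq_of_le_of_card_ge (inf_le_left : (pst p q : Subgroup G) ⊓ stabilizer G z ≤ _) h.ge
    rw [← e] at hg
    exact mem_stabilizer_iff.mp (Subgroup.mem_inf.mp hg).2

theorem card_line_eq (h2 : TwoT G Ω) {p q p' q' : Ω} (h : p ≠ q) (h' : p' ≠ q') :
    (line G p q).card = (line G p' q').card := by
  obtain ⟨g, rfl, rfl⟩ := h2 p q p' q' h h'
  refine card_equiv (MulAction.toPerm g) fun z => ?_
  rw [MulAction.toPerm_apply, mem_line_iff_c3, mem_line_iff_c3, c3_conj, card_pst_eq h2 h h']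

theorem two_le_line {p q : Ω} (h : p ≠ q) : 2 ≤ (line G p q).card := by
  rw [← card_pair h]
  exact card_le_card (by simp [insert_subset_iff, left_mem_line, right_mem_line])

/-- The fixed set of a nontrivial subgroup is small. -/
theorem fixed_bound [FaithfulSMul G Ω] (h2 : TwoT G Ω) {a b : Ω} (hab : a ≠ b) {H : Subgroup G} (hH : H ≠ ⊥)
    {S : Finset Ω} (hS : ∀ z ∈ S, ∀ g ∈ H, g • z = z) :
    S.card * ((line G a b).card - 1) ≤ Fintype.card Ω - 1 := by
  obtain ⟨⟨h, hhH⟩, hne⟩ := Subgroup.ne_bot_iff_exists_ne_one.mp hH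
  have hh1 : h ≠ 1 := fun e => hne (Subtype.ext e)
  obtain ⟨p, hp⟩ : ∃ p : Ω, h • p ≠ p := by
    by_contra! hc
    exact hh1 (eq_of_smul_eq_smul fun z : Ω => by rw [hc z, one_smul])
  have hpS : p ∉ S := fun hm => hp (hS p hm h hhH)
  let f : Ω → Finset Ω := fun c => (line G p c).erase p
  have hcard : ∀ c ∈ S, (f c).card = (line G a b).card - 1 := fun c hc => by
    show ((line G p c).erase p).card = _
    rw [card_erase_of_mem (left_mem_line p c), card_line_eq h2 (fun e => hpS (e ▸ hc) : p ≠ c) hab]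
  have hdisj : (S : Set Ω).PairwiseDisjoint f := by
    intro c hc c' hc' hne
    refine disjoint_left.mpr fun z hz hz' => ?_
    simp only [f, mem_erase] at hz hz'
    have hpc : p ≠ c := fun e => hpS (e ▸ hc)
    have hpc' : p ≠ c' := fun e => hpS (e ▸ hc')
    have e1 := pst_eq_of_mem h2 hpc (left_mem_line p c) hz.2 (Ne.symm hz.1)
    have e2 := pst_eq_of_mem h2 hpc' (left_mem_line p c') hz'.2 (Ne.symm hz'.1)
    have e3 : (pst c c' : Subgroup G) = pst p c := pst_eq_of_mem h2 hpc (right_mem_line p c)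
      (mem_line.mpr fun g hg => by rw [← e1, e2] at hg; exact (mem_pst.mp hg).2) hne
    have hH' : H ≤ pst c c' := fun g hg => mem_pst.mpr ⟨hS c hc g hg, hS c' hc' g hg⟩
    rw [e3] at hH'
    exact hp (mem_pst.mp (hH' hhH)).1
  calc S.card * ((line G a b).card - 1) = (S.biUnion f).card := by
        rw [card_biUnion hdisj, sum_congr rfl hcard, sum_const, smul_eq_mul]
    _ ≤ (univ.erase p).card := card_le_card fun z hz => by
        obtain ⟨c, -, hc⟩ := mem_biUnion.mp hz
        exact mem_erase.mpr ⟨(mem_erase.mp hc).1, mem_univ _⟩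
    _ = _ := by rw [card_erase_of_mem (mem_univ _), card_univ]

theorem card_inf_bound {A A' M : Subgroup G} (hA : A ≤ M) (hA' : A' ≤ M) :
    Nat.card A * Nat.card A' ≤ Nat.card ↥(A ⊓ A') * Nat.card M := by
  have h1 : Nat.card ↥(A ⊓ A') * A'.relIndex A = Nat.card A := by
    rw [← Subgroup.relIndex_bot_left, ← Subgroup.relIndex_bot_left, ← Subgroup.inf_relIndex_left A A']
    exact Subgroup.relIndex_mul_relIndex _ _ _ bot_le inf_le_left
  have h2 : Nat.card A' * A'.relIndex M = Nat.card M := by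
    rw [← Subgroup.relIndex_bot_left, ← Subgroup.relIndex_bot_left]
    exact Subgroup.relIndex_mul_relIndex _ _ _ bot_le hA'
  have h3 : A'.relIndex A ≤ A'.relIndex M :=
    Subgroup.relIndex_le_of_le_right hA (Subgroup.index_ne_zero_of_finite (H := A'.subgroupOf M))
  rw [← h1, ← h2]
  calc _ = Nat.card ↥(A ⊓ A') * (Nat.card A' * A'.relIndex A) := by ring
    _ ≤ _ := by gcongr

section Short

variable [FaithfulSMul G Ω] (h2 : TwoT G Ω) {a : Ω} {k : ℕ} (hk : ∀ p q : Ω, p ≠ q → Nat.card (pst p q : Subgroup G) = k)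
  (hk3 : 3 ≤ k) (hshort : ∀ p q w : Ω, p ≠ q → k ≤ 2 * c3 G p q w)

include hk hshort

theorem sq_eq_one {p q : Ω} (hpq : p ≠ q) {g : G} (hg : g ∈ (pst p q : Subgroup G)) : g * g = 1 := by
  refine eq_of_smul_eq_smul fun w : Ω => ?_
  have h1 := card_orb_mul (pst p q : Subgroup G) w
  have h2' := hshort p q w hpq
  rw [c3] at h2'
  rw [hk p q hpq] at h1
  have hle : (orb (pst p q : Subgroup G) w).card ≤ 2 := by
    by_contra! hc
    have hpos : 0 < Nat.card ↥((pst p q : Subgroup G) ⊓ stabilizer G w) := Nat.card_pos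
    nlinarith
  rw [one_smul, mul_smul]
  by_contra hne
  have hgw : g • w ≠ w := fun e => hne (by rw [e, e])
  have h3 : ({w, g • w, g • (g • w)} : Finset Ω) ⊆ orb (pst p q : Subgroup G) w := by
    intro z hz
    simp only [mem_insert, Finset.mem_singleton] at hz
    rcases hz with rfl | rfl | rfl
    · exact mem_orb.mpr ⟨1, one_mem _, one_smul _ _⟩
    · exact mem_orb.mpr ⟨g, hg, rfl⟩
    · exact mem_orb.mpr ⟨g * g, mul_mem hg hg, mul_smul _ _ _⟩
  have h4 := (card_le_card h3).trans hle
  rw [card_eq_three.mpr ⟨_, _, _, Ne.symm hgw, Ne.symm hne, fun e => hgw (smul_left_cancel g e).symm, rfl⟩] at h4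
  omega

theorem comm_pst {p q : Ω} (hpq : p ≠ q) {g g' : G} (hg : g ∈ (pst p q : Subgroup G))
    (hg' : g' ∈ (pst p q : Subgroup G)) : g * g' = g' * g := by
  have hinv : ∀ {x : G}, x ∈ (pst p q : Subgroup G) → x⁻¹ = x := fun hx =>
    inv_eq_of_mul_eq_one_right (sq_eq_one hk hshort hpq hx)
  rw [← hinv (mul_mem hg hg'), mul_inv_rev, hinv hg, hinv hg']

theorem half {p q w : Ω} (hpq : p ≠ q) (hne : ¬ (pst p q : Subgroup G) ≤ stabilizer G w) :
    2 * Nat.card ↥((pst p q : Subgroup G) ⊓ stabilizer G w) = k := by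
  have h1 := card_orb_mul (pst p q : Subgroup G) w
  have h2' := hshort p q w hpq
  rw [c3] at h2'
  rw [hk p q hpq] at h1
  have hpos : 0 < Nat.card ↥((pst p q : Subgroup G) ⊓ stabilizer G w) := Nat.card_pos
  have h2c : (orb (pst p q : Subgroup G) w).card ≠ 1 := by
    intro hc
    rw [hc, one_mul] at h1
    have e := Subgroup.eq_of_le_of_card_ge (inf_le_left : (pst p q : Subgroup G) ⊓ stabilizer G w ≤ _)
      (by rw [h1, hk p q hpq])
    exact hne (e.ge.trans inf_le_right)
  have hle : (orb (pst p q : Subgroup G) w).card ≤ 2 := by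
    by_contra! hc
    nlinarith
  have h0 : (orb (pst p q : Subgroup G) w).card ≠ 0 :=
    (card_pos.mpr ⟨w, mem_orb.mpr ⟨1, one_mem _, one_smul _ _⟩⟩).ne'
  rw [show (orb (pst p q : Subgroup G) w).card = 2 by omega] at h1
  exact h1

include h2

/-- A third conjugate missing the intersection of two lies in their join. -/
theorem le_join {y z w : Ω} (hy : a ≠ y) (hz : a ≠ z) (hw : a ≠ w) (hne : (pst a y : Subgroup G) ≠ pst a z)
    (hI : ¬ (pst a y : Subgroup G) ⊓ pst a z ≤ pst a w) : (pst a w : Subgroup G) ≤ pst a y ⊔ pst a z := by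
  set M := (pst a w : Subgroup G)
  have hwy : ¬ M ≤ pst a y := fun h => by
    rw [Subgroup.eq_of_le_of_card_ge h (by rw [hk _ _ hw, hk _ _ hy])] at hI
    exact hI inf_le_left
  have hwz : ¬ M ≤ pst a z := fun h => by
    rw [Subgroup.eq_of_le_of_card_ge h (by rw [hk _ _ hw, hk _ _ hz])] at hI
    exact hI inf_le_right
  have eM : ∀ {u : Ω}, M ⊓ stabilizer G u = M ⊓ pst a u := fun {u} =>
    le_antisymm (fun g hg => ⟨hg.1, mem_pst.mpr ⟨(mem_pst.mp hg.1).1, mem_stabilizer_iff.mp hg.2⟩⟩)
      (fun g hg => ⟨hg.1, mem_stabilizer_iff.mpr (mem_pst.mp hg.2).2⟩)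
  have cy : 2 * Nat.card ↥(M ⊓ pst a y) = k := eM (u := y) ▸ half hk hshort hw (fun h => hwy fun g hg =>
    mem_pst.mpr ⟨(mem_pst.mp hg).1, mem_stabilizer_iff.mp (h hg)⟩)
  have cz : 2 * Nat.card ↥(M ⊓ pst a z) = k := eM (u := z) ▸ half hk hshort hw (fun h => hwz fun g hg =>
    mem_pst.mpr ⟨(mem_pst.mp hg).1, mem_stabilizer_iff.mp (h hg)⟩)
  have hAne : M ⊓ pst a y ≠ M ⊓ pst a z := by
    intro e
    have hyz : M ⊓ pst a y ≤ pst a y ⊓ pst a z := le_inf inf_le_right (e.le.trans inf_le_right)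
    have hlt : Nat.card ↥((pst a y : Subgroup G) ⊓ pst a z) ≤ Nat.card ↥(M ⊓ pst a y) := by
      have hd := Subgroup.card_dvd_of_le (inf_le_left : (pst a y : Subgroup G) ⊓ pst a z ≤ _)
      obtain ⟨m, hm⟩ := hd
      rw [hk _ _ hy] at hm
      have hm1 : m ≠ 1 := by
        rintro rfl
        rw [mul_one] at hm
        have := Subgroup.eq_of_le_of_card_ge (inf_le_left : (pst a y : Subgroup G) ⊓ pst a z ≤ _) (by rw [← hm, hk _ _ hy])
        exact hne (Subgroup.eq_of_le_of_card_ge (this.ge.trans inf_le_right) (by rw [hk _ _ hy, hk _ _ hz]))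
      have hm0 : m ≠ 0 := by
        rintro rfl
        rw [mul_zero] at hm
        exact (Nat.card_pos (α := (pst a y : Subgroup G))).ne' ((hk _ _ hy).trans hm)
      have : Nat.card ↥((pst a y : Subgroup G) ⊓ pst a z) * 2 ≤ k := hm ▸ Nat.mul_le_mul_left _ (by omega)
      omega
    exact hI ((Subgroup.eq_of_le_of_card_ge hyz hlt).ge.trans inf_le_left)
  have hlt : M ⊓ pst a y < (M ⊓ pst a y) ⊔ (M ⊓ pst a z) := by
    refine lt_of_le_of_ne le_sup_left fun e => hAne ?_
    exact (Subgroup.eq_of_le_of_card_ge (e ▸ le_sup_right) (by omega)).symm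
  have htop : (M ⊓ pst a y) ⊔ (M ⊓ pst a z) = M := by
    refine Subgroup.eq_of_le_of_card_ge (sup_le inf_le_left inf_le_left) ?_
    obtain ⟨m, hm⟩ := Subgroup.card_dvd_of_le (sup_le inf_le_left inf_le_left : (M ⊓ pst a y) ⊔ (M ⊓ pst a z) ≤ M)
    have h1 : Nat.card ↥(M ⊓ pst a y) < Nat.card ↥((M ⊓ pst a y) ⊔ (M ⊓ pst a z)) := by
      refine lt_of_not_ge fun h => hlt.ne (Subgroup.eq_of_le_of_card_ge hlt.le h)
    rw [hk _ _ hw] at hm ⊢
    rcases m with _ | _ | m
    · simp at hm; omega
    · omega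
    · have : Nat.card ↥((M ⊓ pst a y) ⊔ (M ⊓ pst a z)) * 2 ≤ k := hm ▸ Nat.mul_le_mul_left _ (by omega)
      omega
  rw [← htop]
  exact sup_le (inf_le_right.trans le_sup_left) (inf_le_right.trans le_sup_right)

include hk3

/-- The two-point stabilisers at `a` fix the orbit pairs of each other. -/
theorem fix_mate {b x : Ω} (hb : a ≠ b) (hx : a ≠ x) {κ : G} (hκ : κ ∈ (pst a b : Subgroup G)) {m : G}
    (hm : m ∈ (pst a x : Subgroup G)) : m • κ • x = κ • x := by
  suffices h : m * κ = κ * m by rw [← mul_smul, h, mul_smul, (mem_pst.mp hm).2]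
  obtain ⟨y, hy, hby⟩ : ∃ y, a ≠ y ∧ (pst a b : Subgroup G) ≠ pst a y := by
    by_contra! hc
    have : (pst a b : Subgroup G) = ⊥ := by
      refine (Subgroup.eq_bot_iff_forall _).mpr fun g hg => eq_of_smul_eq_smul fun w : Ω => ?_
      rw [one_smul]
      by_cases hw : a = w
      · exact hw ▸ (mem_pst.mp hg).1
      · exact (mem_pst.mp (hc w hw ▸ hg)).2
    have := hk a b hb
    rw [‹(pst a b : Subgroup G) = ⊥›, Subgroup.card_bot] at this
    omega
  set I := (pst a b : Subgroup G) ⊓ pst a y with hIdef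
  have hIcard : 2 * Nat.card I = k := by
    have e : I = (pst a b : Subgroup G) ⊓ stabilizer G y :=
      le_antisymm (fun g hg => ⟨hg.1, mem_stabilizer_iff.mpr (mem_pst.mp hg.2).2⟩)
        (fun g hg => ⟨hg.1, mem_pst.mpr ⟨(mem_pst.mp hg.1).1, mem_stabilizer_iff.mp hg.2⟩⟩)
    rw [e]
    exact half hk hshort hb fun h => hby (Subgroup.eq_of_le_of_card_ge
      (fun g hg => mem_pst.mpr ⟨(mem_pst.mp hg).1, mem_stabilizer_iff.mp (h hg)⟩) (by rw [hk _ _ hb, hk _ _ hy]))
  obtain ⟨z, hz, hIz⟩ : ∃ z, a ≠ z ∧ ¬ I ≤ pst a z := by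
    by_contra! hc
    have : I = ⊥ := by
      refine (Subgroup.eq_bot_iff_forall _).mpr fun g hg => eq_of_smul_eq_smul fun w : Ω => ?_
      rw [one_smul]
      by_cases hw : a = w
      · exact hw ▸ (mem_pst.mp hg.1).1
      · exact (mem_pst.mp (hc w hw hg)).2
    rw [this, Subgroup.card_bot] at hIcard
    omega
  set J := (pst a b : Subgroup G) ⊔ pst a y with hJ
  have hzJ : (pst a z : Subgroup G) ≤ J := le_join h2 hk hshort hb hy hz hby hIz
  have hall : ∀ w, a ≠ w → (pst a w : Subgroup G) ≤ J := by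
    intro w hw
    by_cases hIw : I ≤ pst a w
    · by_cases e : (pst a w : Subgroup G) = pst a b
      · exact e.le.trans le_sup_left
      refine (le_join h2 hk hshort hb hz hw (fun e' => hIz (e' ▸ inf_le_left)) fun hA => e ?_).trans
        (sup_le le_sup_left hzJ)
      -- both index two subgroups of `pst a b` lie in `pst a w`
      refine (Subgroup.eq_of_le_of_card_ge ?_ (by rw [hk _ _ hb, hk _ _ hw])).symm
      intro g hg
      have hAI : ¬ (pst a b : Subgroup G) ⊓ pst a z ≤ I := by
        intro hle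
        have hc : 2 * Nat.card ↥((pst a b : Subgroup G) ⊓ pst a z) = k := by
          have e : (pst a b : Subgroup G) ⊓ pst a z = (pst a b : Subgroup G) ⊓ stabilizer G z :=
            le_antisymm (fun g hg => ⟨hg.1, mem_stabilizer_iff.mpr (mem_pst.mp hg.2).2⟩)
              (fun g hg => ⟨hg.1, mem_pst.mpr ⟨(mem_pst.mp hg.1).1, mem_stabilizer_iff.mp hg.2⟩⟩)
          rw [e]
          refine half hk hshort hb fun h => hIz ?_
          exact inf_le_left.trans fun g hg => mem_pst.mpr ⟨(mem_pst.mp hg).1, mem_stabilizer_iff.mp (h hg)⟩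
        exact hIz ((Subgroup.eq_of_le_of_card_ge hle (by omega)).ge.trans inf_le_right)
      obtain ⟨u, hu, huI⟩ := SetLike.not_le_iff_exists.mp hAI
      by_cases hgI : g ∈ I
      · exact hIw hgI
      · have hrel : (I.subgroupOf (pst a b)).index = 2 := by
          have h1 := Subgroup.card_mul_index (I.subgroupOf (pst a b : Subgroup G))
          rw [Nat.card_congr (Subgroup.subgroupOfEquivOfLe (inf_le_left : I ≤ _)).toEquiv, hk _ _ hb] at h1
          have hpos : 0 < Nat.card I := Nat.card_pos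
          nlinarith
        have := (Subgroup.mul_mem_iff_of_index_two hrel (a := ⟨g, hg⟩) (b := ⟨u, hu.1⟩)).mpr
          (iff_of_false (fun h => hgI h) (fun h => huI h))
        have h' := mul_mem (hIw (Subgroup.mem_subgroupOf.mp this)) (inv_mem (hA hu))
        simpa using h'
    · exact le_join h2 hk hshort hb hy hw hby hIw
  have hJcomm : ∀ g ∈ J, ∀ g' ∈ J, g * g' = g' * g := by
    have gen : ∀ g ∈ (pst a b : Subgroup G), ∀ g' ∈ (pst a y : Subgroup G), g * g' = g' * g := by
      intro g hg g' hg'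
      -- `pst a y` is generated by `I` and its meet with `pst a z`
      have hbz : (pst a b : Subgroup G) ≠ pst a z := fun e => hIz (e ▸ inf_le_left)
      have hyz : (pst a y : Subgroup G) ≠ pst a z := fun e => hIz (e ▸ inf_le_right)
      have half' : ∀ {u : Ω}, a ≠ u → (pst a u : Subgroup G) ≠ pst a z →
          2 * Nat.card ↥((pst a u : Subgroup G) ⊓ pst a z) = k := fun {u} hu hne => by
        have e : (pst a u : Subgroup G) ⊓ pst a z = (pst a u : Subgroup G) ⊓ stabilizer G z :=
          le_antisymm (fun g hg => ⟨hg.1, mem_stabilizer_iff.mpr (mem_pst.mp hg.2).2⟩)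
            (fun g hg => ⟨hg.1, mem_pst.mpr ⟨(mem_pst.mp hg.1).1, mem_stabilizer_iff.mp hg.2⟩⟩)
        rw [e]
        exact half hk hshort hu fun h => hne (Subgroup.eq_of_le_of_card_ge
          (fun g hg => mem_pst.mpr ⟨(mem_pst.mp hg).1, mem_stabilizer_iff.mp (h hg)⟩) (by rw [hk _ _ hu, hk _ _ hz]))
      have gen2 : ∀ {u : Ω} (hu : a ≠ u), (pst a u : Subgroup G) ≠ pst a z → I ≤ pst a u →
          (pst a u : Subgroup G) ≤ Subgroup.closure ((I : Set G) ∪ ((pst a u : Subgroup G) ⊓ pst a z : Subgroup G)) := by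
        intro u hu hne hIu g hg
        obtain ⟨v, hv, hvI⟩ : ∃ v, v ∈ (pst a u : Subgroup G) ⊓ pst a z ∧ v ∉ I := by
          refine SetLike.not_le_iff_exists.mp fun hle => hIz ?_
          exact (Subgroup.eq_of_le_of_card_ge hle (by have := half' hu hne; omega)).ge.trans inf_le_right
        by_cases hgI : g ∈ I
        · exact Subgroup.subset_closure (Or.inl hgI)
        · have hrel : (I.subgroupOf (pst a u)).index = 2 := by
            have h1 := Subgroup.card_mul_index (I.subgroupOf (pst a u : Subgroup G))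
            rw [Nat.card_congr (Subgroup.subgroupOfEquivOfLe hIu).toEquiv, hk _ _ hu] at h1
            have hpos : 0 < Nat.card I := Nat.card_pos
            nlinarith
          have := (Subgroup.mul_mem_iff_of_index_two hrel (a := ⟨g, hg⟩) (b := ⟨v, hv.1⟩)).mpr
            (iff_of_false (fun h => hgI h) (fun h => hvI h))
          have h' := mul_mem (Subgroup.subset_closure (k := (I : Set G) ∪ ((pst a u : Subgroup G) ⊓ pst a z : Subgroup G))
            (Or.inl (Subgroup.mem_subgroupOf.mp this))) (inv_mem (Subgroup.subset_closure (Or.inr hv)))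
          simpa using h'
      have gb := Subgroup.closure_mono (k := (I : Set G) ∪ (((pst a b : Subgroup G) ⊓ pst a z : Subgroup G) ∪
        ((pst a y : Subgroup G) ⊓ pst a z : Subgroup G)))
        (Set.union_subset_union_right _ Set.subset_union_left) (gen2 hb hbz inf_le_left hg)
      have gy := Subgroup.closure_mono (k := (I : Set G) ∪ (((pst a b : Subgroup G) ⊓ pst a z : Subgroup G) ∪
        ((pst a y : Subgroup G) ⊓ pst a z : Subgroup G)))
        (Set.union_subset_union_right _ Set.subset_union_right) (gen2 hy hyz inf_le_right hg')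
      refine Subgroup.closure_induction₂ (p := fun u v _ _ => u * v = v * u) ?_ ?_ ?_ ?_ ?_ ?_ ?_ gb gy
      · rintro u v (hu | hu | hu) (hv | hv | hv)
        · exact comm_pst hk hshort hb hu.1 hv.1
        · exact comm_pst hk hshort hb hu.1 hv.1
        · exact comm_pst hk hshort hy hu.2 hv.1
        · exact comm_pst hk hshort hb hu.1 hv.1
        · exact comm_pst hk hshort hz hu.2 hv.2
        · exact comm_pst hk hshort hz hu.2 hv.2
        · exact comm_pst hk hshort hy hu.1 hv.2
        · exact comm_pst hk hshort hz hu.2 hv.2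
        · exact comm_pst hk hshort hz hu.2 hv.2
      · intros; simp
      · intros; simp
      · intro u v w _ _ _ h1 h2; exact Commute.mul_left h1 h2
      · intro u v w _ _ _ h1 h2; exact Commute.mul_right h1 h2
      · intro u v _ _ h1; exact Commute.inv_left h1
      · intro u v _ _ h1; exact Commute.inv_right h1
    intro g hg g' hg'
    rw [hJ, Subgroup.sup_eq_closure] at hg hg'
    refine Subgroup.closure_induction₂ (p := fun u v _ _ => u * v = v * u) ?_ ?_ ?_ ?_ ?_ ?_ ?_ hg hg'
    · rintro u v (hu | hu) (hv | hv)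
      · exact comm_pst hk hshort hb hu hv
      · exact gen u hu v hv
      · exact (gen v hv u hu).symm
      · exact comm_pst hk hshort hy hu hv
    · intros; simp
    · intros; simp
    · intro u v w _ _ _ h1 h2; exact Commute.mul_left h1 h2
    · intro u v w _ _ _ h1 h2; exact Commute.mul_right h1 h2
    · intro u v _ _ h1; exact Commute.inv_left h1
    · intro u v _ _ h1; exact Commute.inv_right h1
  exact hJcomm m (hall x hx hm) κ (le_sup_left (b := (pst a y : Subgroup G)) hκ)

end Short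

theorem short_le_two [FaithfulSMul G Ω] (h2 : TwoT G Ω) {k : ℕ} {a b : Ω} (hab : a ≠ b)
    (hk : ∀ p q : Ω, p ≠ q → Nat.card (pst p q : Subgroup G) = k)
    (hshort : ∀ p q w : Ω, p ≠ q → k ≤ 2 * c3 G p q w) : k ≤ 2 := by
  by_contra! hk3
  obtain ⟨κ, hκ, x, hκx⟩ : ∃ κ ∈ (pst a b : Subgroup G), ∃ x : Ω, κ • x ≠ x := by
    by_contra! hc
    have : (pst a b : Subgroup G) = ⊥ := (Subgroup.eq_bot_iff_forall _).mpr fun g hg =>
      eq_of_smul_eq_smul fun w : Ω => by rw [hc g hg w, one_smul]
    have h := hk a b hab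
    rw [this, Subgroup.card_bot] at h
    omega
  have hxa : a ≠ x := fun e => hκx (e ▸ (mem_pst.mp hκ).1)
  have hxb : b ≠ x := fun e => hκx (e ▸ (mem_pst.mp hκ).2)
  have e : ∀ u : Ω, u ≠ x → (∀ m ∈ (pst u x : Subgroup G), m • κ • x = κ • x) →
      (pst u x : Subgroup G) = pst x (κ • x) := fun u hu h =>
    Subgroup.eq_of_le_of_card_ge (fun m hm => mem_pst.mpr ⟨(mem_pst.mp hm).2, h m hm⟩)
      (by rw [hk _ _ hu, hk _ _ (Ne.symm hκx)])
  have e1 := e a hxa fun m hm => fix_mate h2 hk (by omega) hshort hab hxa hκ hm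
  have e2 := e b hxb fun m hm =>
    fix_mate h2 hk (by omega) hshort (Ne.symm hab) hxb (pst_comm (G := G) a b ▸ hκ) hm
  have hle : (pst a x : Subgroup G) ≤ pst a b := fun m hm =>
    mem_pst.mpr ⟨(mem_pst.mp hm).1, (mem_pst.mp ((e1.trans e2.symm) ▸ hm)).1⟩
  have := Subgroup.eq_of_le_of_card_ge hle (by rw [hk _ _ hab, hk _ _ hxa])
  exact hκx (mem_pst.mp (this.symm ▸ hκ)).2

end Cfsg.Agent.Classical.Derange
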