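import Cfsg.Agent.Lib.Classical.Derange.Cases

/-!
# The derangement bound
-/

set_option autoImplicit false
set_option linter.unusedSectionVars false

namespace Cfsg.Agent.Classical.Derange

open Finset MulAction
open scoped _root_.Classical

variable {G Ω : Type*} [Group G] [Finite G] [MulAction G Ω] [Fintype Ω] [Fintype G]

/-- There is no two-transitive group of degree seven with stabiliser of two points of order two. -/
theorem not_seven_two [FaithfulSMul G Ω] (h2 : TwoT G Ω) (hn : Fintype.card Ω = 7) {a b : Ω} (hab : a ≠ b)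
    (hK : Nat.card (pst a b : Subgroup G) = 2) : False := by
  haveI : Fact (Nat.Prime 7) := ⟨by norm_num⟩
  have htr := twoT_pretransitive h2
  have hG : Nat.card G = 84 := by
    rw [← card_stab htr a, ← card_pst h2 hab, hn, hK]
  obtain ⟨P⟩ : Nonempty (Sylow 7 G) := inferInstance
  have hP : Nat.card (P : Subgroup G) = 7 := by
    rw [Sylow.card_eq_multiplicity, hG]
    have : Nat.factorization 84 7 = 1 := by
      rw [show (84 : ℕ) = 7 * 12 from rfl, Nat.factorization_mul (by norm_num) (by norm_num), Finsupp.add_apply,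
        Nat.Prime.factorization_self (by norm_num), Nat.factorization_eq_zero_of_not_dvd (by norm_num)]
    rw [this, pow_one]
  have hone : Nat.card (Sylow 7 G) = 1 := by
    have h1 := Sylow.card_dvd_index P
    have h2' : (P : Subgroup G).index = 12 := by
      have := (P : Subgroup G).card_mul_index
      rw [hP, hG] at this
      omega
    rw [h2'] at h1
    have h3 := card_sylow_modEq_one 7 G
    have h4 : Nat.card (Sylow 7 G) ≤ 12 := Nat.le_of_dvd (by norm_num) h1
    unfold Nat.ModEq at h3
    interval_cases (Nat.card (Sylow 7 G)) <;> omega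
  haveI : Subsingleton (Sylow 7 G) := (Nat.card_eq_one_iff_unique.mp hone).1
  haveI : (P : Subgroup G).Normal := P.normal_of_subsingleton
  obtain ⟨g, hg, hg1⟩ : ∃ g ∈ (pst a b : Subgroup G), g ≠ 1 := by
    by_contra! hc
    rw [(Subgroup.eq_bot_iff_forall _).mpr hc, Subgroup.card_bot] at hK
    omega
  haveI : Fact (Nat.Prime 7) := ⟨by norm_num⟩
  -- the orbit of `a` under `P` is everything
  have horb : orb (P : Subgroup G) a = univ := by
    refine eq_univ_of_card _ ?_
    have h := card_orb_mul (P : Subgroup G) a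
    rw [hP] at h
    have hd : (orb (P : Subgroup G) a).card ∣ 7 := Dvd.intro _ h
    rcases (Nat.dvd_prime (by norm_num)).mp hd with h1 | h1
    · exfalso
      -- a normal subgroup fixing `a` fixes every point
      have hfix : ∀ p ∈ (P : Subgroup G), p • a = a := fun p hp =>
        card_le_one.mp h1.le _ (mem_orb.mpr ⟨p, hp, rfl⟩) _ (mem_orb.mpr ⟨1, one_mem _, one_smul _ _⟩)
      have hall : (P : Subgroup G) = ⊥ := (Subgroup.eq_bot_iff_forall _).mpr fun p hp =>
        eq_of_smul_eq_smul fun z : Ω => by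
          obtain ⟨u, rfl⟩ := exists_smul_eq G a z
          have := hfix _ (Subgroup.Normal.conj_mem inferInstance p hp u⁻¹)
          rw [inv_inv, mul_smul, mul_smul, inv_smul_eq_iff] at this
          rw [one_smul, this]
      rw [hall, Subgroup.card_bot] at hP
      omega
    · rw [h1, hn]
  have hfree : ∀ p ∈ (P : Subgroup G), p • a = a → p = 1 := by
    intro p hp hpa
    have h := card_orb_mul (P : Subgroup G) a
    rw [horb, card_univ, hn, hP] at h
    have hb : (P : Subgroup G) ⊓ stabilizer G a = ⊥ := Subgroup.eq_bot_of_card_eq _ (by omega)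
    exact Subgroup.mem_bot.mp (hb ▸ (⟨hp, hpa⟩ : p ∈ (P : Subgroup G) ⊓ stabilizer G a))
  obtain ⟨x, hx, hxb⟩ := mem_orb.mp (horb ▸ mem_univ b : b ∈ orb (P : Subgroup G) a)
  obtain ⟨ga, gb⟩ := mem_pst.mp hg
  have hga : g⁻¹ • a = a := inv_smul_eq_iff.mpr ga.symm
  have hcx : g * x * g⁻¹ = x := by
    have h1 : (x⁻¹ * (g * x * g⁻¹)) • a = a := by
      rw [mul_smul, mul_smul, mul_smul, hga, hxb, gb, inv_smul_eq_iff, hxb]
    exact (inv_mul_eq_one.mp (hfree _ (mul_mem (inv_mem hx) (Subgroup.Normal.conj_mem inferInstance x hx g)) h1)).symm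
  have hx1 : x ≠ 1 := fun e => hab (by rw [← hxb, e, one_smul])
  have hgen : Subgroup.zpowers x = (P : Subgroup G) := by
    refine Subgroup.eq_of_le_of_card_ge (Subgroup.zpowers_le.mpr hx) ?_
    rw [Nat.card_zpowers, hP]
    have hd : orderOf x ∣ 7 := hP ▸ Subgroup.orderOf_dvd_natCard _ hx
    rcases (Nat.dvd_prime (by norm_num)).mp hd with h1 | h1
    · exact absurd (orderOf_eq_one_iff.mp h1) hx1
    · omega
  refine hg1 (eq_of_smul_eq_smul fun z : Ω => ?_)
  obtain ⟨p, hp, rfl⟩ := mem_orb.mp (horb ▸ mem_univ z : z ∈ orb (P : Subgroup G) a)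
  rw [← hgen] at hp
  obtain ⟨i, rfl⟩ := Subgroup.mem_zpowers_iff.mp hp
  have hc : Commute g (x ^ i) := Commute.zpow_right (mul_inv_eq_iff_eq_mul.mp hcx) i
  rw [one_smul, ← mul_smul, hc.eq, mul_smul, ga]

theorem not_bad_two [FaithfulSMul G Ω] (h2 : TwoT G Ω) (hn : 7 ≤ Fintype.card Ω)
    {a b : Ω} (hab : a ≠ b) (hk : Nat.card (pst a b : Subgroup G) = 2) : ¬ Bad G 2 a b := by
  intro hbad
  have hcount := count_lt (s := univ \ line G a b) (m := 2) hk hbad le_rfl
    fun x hx => c3_half hk (mem_sdiff.mp hx).2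
  have hne : (pst a b : Subgroup G) ≠ ⊥ := fun e => by rw [e, Subgroup.card_bot] at hk; omega
  have hb := fixed_bound h2 hab hne (S := line G a b) fun z hz g hg => mem_line.mp hz g hg
  rw [card_sdiff_of_subset (subset_univ _), card_univ] at hcount
  set f := (line G a b).card with hf
  have hf2 : 2 ≤ f := two_le_line hab
  simp only [Nat.sub_self, zero_mul, zero_add, mul_one] at hcount
  have hf3 : f = 3 := by
    by_contra hne
    rcases Nat.lt_or_ge f 3 with h | h
    · omega
    · have : 4 * (f - 1) ≤ f * (f - 1) := Nat.mul_le_mul_right _ (by omega)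
      omega
  obtain ⟨g, hg, hg1⟩ : ∃ g ∈ (pst a b : Subgroup G), g ≠ 1 := by
    by_contra! hc
    exact hne ((Subgroup.eq_bot_iff_forall _).mpr hc)
  have hfix : theta Ω g = f := by
    show (fixp g).card = _
    congr 1
    ext z
    rw [mem_fixp, mem_line]
    refine ⟨fun h u hu => ?_, fun h => h g hg⟩
    obtain ⟨y, z', -, hyz⟩ := Nat.card_eq_two_iff.mp hk
    have hall : ∀ v : (pst a b : Subgroup G), v = 1 ∨ v = ⟨g, hg⟩ := fun v => by
      have hv : v ∈ ({y, z'} : Set _) := hyz ▸ Set.mem_univ v
      have h1 : (1 : (pst a b : Subgroup G)) ∈ ({y, z'} : Set _) := hyz ▸ Set.mem_univ _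
      have hgm : (⟨g, hg⟩ : (pst a b : Subgroup G)) ∈ ({y, z'} : Set _) := hyz ▸ Set.mem_univ _
      have hne1 : (⟨g, hg⟩ : (pst a b : Subgroup G)) ≠ 1 := fun e => hg1 (congrArg Subtype.val e)
      simp only [Set.mem_insert_iff, Set.mem_singleton_iff] at hv h1 hgm
      grind
    rcases hall ⟨u, hu⟩ with e | e
    · rw [show u = 1 from congrArg Subtype.val e, one_smul]
    · rw [show u = g from congrArg Subtype.val e, h]
  haveI : Fact (Nat.Prime 2) := ⟨Nat.prime_two⟩
  have hmod : Fintype.card Ω ≡ f [MOD 2] := by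
    let φ : Function.End Ω := fun z => g • z
    have hφ : φ ^ 2 ^ 1 = 1 := by
      funext z
      show g • (g • z) = z
      have hord : g * g = 1 := by
        have h := pow_card_eq_one' (G := (pst a b : Subgroup G)) (x := ⟨g, hg⟩)
        rw [hk, pow_two] at h
        exact congrArg Subtype.val h
      rw [← mul_smul, hord, one_smul]
    have h := Equiv.Perm.card_fixedPoints_modEq hφ
    rwa [show Fintype.card φ.fixedPoints = f by
      rw [← hfix, Fintype.card_of_subtype (fixp g)]
      · rfl
      · intro z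
        exact mem_fixp] at h
  unfold Nat.ModEq at hmod
  have h7 : Fintype.card Ω = 7 := by omega
  exact not_seven_two h2 h7 hab hk

/-- The derangement bound. -/
theorem bound [FaithfulSMul G Ω] (htr : IsPretransitive G Ω) (hn : 7 ≤ Fintype.card Ω) :
    (∃ a : ℕ, (a = 1 ∨ a = 2) ∧ (IsPretransitive G Ω ∧ (∃ g : G, g ≠ 1 ∧ ∃ ω : Ω, g • ω = ω) ∧
      ∀ g : G, g ≠ 1 → Nat.card (fixedBy Ω g) ≤ 1) ∧ a * Nat.card G = Fintype.card Ω * (Fintype.card Ω - 1) ∧
      Fintype.card Ω * Nat.card {g : G // ∀ ω : Ω, g • ω ≠ ω} = a * Nat.card G) ∨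
    2 * Nat.card G ≤ Fintype.card Ω * Nat.card {g : G // ∀ ω : Ω, g • ω ≠ ω} := by
  haveI : Nonempty Ω := Fintype.card_pos_iff.mp (by omega)
  by_cases h2 : TwoT G Ω
  swap
  · exact Or.inr (not_twoT_bound htr h2)
  obtain ⟨a, b, hab⟩ := Fintype.one_lt_card_iff.mp (show 1 < Fintype.card Ω by omega)
  set k := Nat.card (pst a b : Subgroup G) with hkdef
  have hk : ∀ p q : Ω, p ≠ q → Nat.card (pst p q : Subgroup G) = k := fun p q h => card_pst_eq h2 h hab
  have hk0 : 0 < k := Nat.card_pos
  rcases Nat.lt_or_ge k 2 with hk1 | hk2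
  · -- sharply two-transitive
    have hk1 : k = 1 := by omega
    refine Or.inl ⟨1, Or.inl rfl, ?_⟩
    have hfix : ∀ g : G, g ≠ 1 → theta Ω g ≤ 1 := by
      intro g hg
      show (fixp g).card ≤ 1
      by_contra! h
      obtain ⟨p, hp, q, hq, hpq⟩ := one_lt_card.mp h
      have hm : g ∈ (pst p q : Subgroup G) := mem_pst.mpr ⟨mem_fixp.mp hp, mem_fixp.mp hq⟩
      rw [Subgroup.eq_bot_of_card_eq _ ((hk p q hpq).trans hk1)] at hm
      exact hg (Subgroup.mem_bot.mp hm)
    have hst : Nat.card (stabilizer G a) = Fintype.card Ω - 1 := by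
      rw [← card_pst h2 hab, ← hkdef, hk1, mul_one]
    have hG : Nat.card G = Fintype.card Ω * (Fintype.card Ω - 1) := by rw [← card_stab htr a, hst]
    refine ⟨⟨htr, ?_, fun g hg => ?_⟩, by rw [one_mul, hG], ?_⟩
    · by_contra! hc
      have hbot : stabilizer G a = ⊥ := (Subgroup.eq_bot_iff_forall _).mpr fun g hg =>
        by_contra fun h => hc g h a (mem_stabilizer_iff.mp hg)
      rw [hbot, Subgroup.card_bot] at hst
      omega
    · refine le_of_eq_of_le ?_ (hfix g hg)
      rw [Nat.card_eq_fintype_card]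
      exact Fintype.card_of_subtype _ fun z => mem_fixp
    · have hi := moment_identity (Ω := Ω) (G := G) htr
      have hc : ∀ g : G, corr (Ω := Ω) g = 0 := by
        intro g
        by_cases hg : g = 1
        · simp [hg, corr, theta, fixp, card_univ]
        · have := hfix g hg
          unfold corr
          interval_cases theta Ω g <;> simp
      have hsq : ∑ g : G, theta Ω g * theta Ω g = 2 * Nat.card G := by
        rw [sum_theta_sq]
        have hx : ∀ x : Ω, ∑ y : Ω, Nat.card ↥(stabilizer G x ⊓ stabilizer G y) = 2 * Nat.card (stabilizer G x) := by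
          intro x
          obtain ⟨y, hy⟩ := Fintype.exists_ne_of_one_lt_card (show 1 < Fintype.card Ω by omega) x
          rw [← sum_erase_add _ _ (mem_univ x), inf_idem, ← card_orb_stab h2 (Ne.symm hy), sum_orb]
          ring
        rw [sum_congr rfl fun x _ => hx x, ← mul_sum]
        congr 1
        rw [← sum_theta (Ω := Ω) htr]
        have h := sum_filter_theta (Ω := Ω) (⊤ : Subgroup G)
        simp only [Subgroup.mem_top, filter_true, top_inf_eq] at h
        exact h.symm
      simp only [hc, sum_const_zero, add_zero] at hi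
      zify at hsq ⊢
      linarith
  · refine Or.inr (twoT_bound h2 (by omega) fun p q hpq => ?_)
    rw [hk p q hpq]
    refine ⟨hk2, not_lt.mp fun hbad => ?_⟩
    rcases Nat.lt_or_ge k 3 with h | h
    · have h' : k = 2 := by omega
      exact not_bad_two h2 hn hpq ((hk p q hpq).trans h') (by rw [h'] at hbad; exact hbad)
    · exact not_bad h2 hn hk h hpq hbad

end Cfsg.Agent.Classical.Derange
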