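import Mathlib

/-!
# Derangements in transitive groups: moments of the fixed point counts

With `θ g` the number of fixed points and `D` the number of derangements,
`n * D = ∑ θ g ^ 2 - |G| + ∑_{θ g ≥ 1} (θ g - 1) (n - θ g)`.
-/

set_option autoImplicit false
set_option linter.unusedSectionVars false

namespace Cfsg.Agent.Classical.Derange

open Finset MulAction
open scoped _root_.Classical

variable {G Ω : Type*} [Group G] [Finite G] [MulAction G Ω] [Fintype Ω]

/-- The fixed points of `g`. -/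
noncomputable def fixp (g : G) : Finset Ω := univ.filter fun x => g • x = x

variable (Ω) in
/-- The number of fixed points. -/
noncomputable def theta (g : G) : ℕ := (fixp (Ω := Ω) g).card

/-- Two-transitivity. -/
def TwoT (G Ω : Type*) [Group G] [MulAction G Ω] : Prop :=
  ∀ a b c d : Ω, a ≠ b → c ≠ d → ∃ g : G, g • a = c ∧ g • b = d

/-- The stabiliser of two points. -/
def pst (p q : Ω) : Subgroup G := stabilizer G p ⊓ stabilizer G q

theorem mem_fixp {g : G} {x : Ω} : x ∈ fixp g ↔ g • x = x := by simp [fixp]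

theorem mem_pst {p q : Ω} {g : G} : g ∈ (pst p q : Subgroup G) ↔ g • p = p ∧ g • q = q := by
  simp [pst, mem_stabilizer_iff]

theorem pst_comm (p q : Ω) : (pst p q : Subgroup G) = pst q p := inf_comm _ _

/-- The orbit of `x` under a subgroup. -/
noncomputable def orb (H : Subgroup G) (x : Ω) : Finset Ω := (orbit H x).toFinset

theorem mem_orb {H : Subgroup G} {x y : Ω} : y ∈ orb H x ↔ ∃ h ∈ H, h • x = y := by
  simp only [orb, Set.mem_toFinset, mem_orbit_iff]
  exact ⟨fun ⟨h, e⟩ => ⟨h.1, h.2, e⟩, fun ⟨h, hh, e⟩ => ⟨⟨h, hh⟩, e⟩⟩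

theorem card_orb_mul (H : Subgroup G) (x : Ω) :
    (orb H x).card * Nat.card ↥(H ⊓ stabilizer G x) = Nat.card H := by
  have h1 : (stabilizer H x) = (H ⊓ stabilizer G x).subgroupOf H := by
    ext h
    simp only [mem_stabilizer_iff, Subgroup.mem_subgroupOf, Subgroup.mem_inf, SetLike.coe_mem, true_and]
    rfl
  have h2 : Nat.card ↥(H ⊓ stabilizer G x) = Nat.card (stabilizer H x) := by
    rw [h1, Nat.card_congr (Subgroup.subgroupOfEquivOfLe (inf_le_left : H ⊓ stabilizer G x ≤ H)).toEquiv]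
  rw [h2, orb, ← Set.ncard_eq_toFinset_card', ← index_stabilizer, mul_comm, Subgroup.card_mul_index]

theorem orb_eq {H : Subgroup G} {x y : Ω} (hy : y ∈ orb H x) : orb H y = orb H x := by
  obtain ⟨h, hh, rfl⟩ := mem_orb.mp hy
  ext z
  rw [mem_orb, mem_orb]
  exact ⟨fun ⟨m, hm, e⟩ => ⟨m * h, H.mul_mem hm hh, by rw [mul_smul, e]⟩,
    fun ⟨m, hm, e⟩ => ⟨m * h⁻¹, H.mul_mem hm (H.inv_mem hh), by rw [mul_smul, inv_smul_smul, e]⟩⟩

theorem card_inf_of_orb {H : Subgroup G} {x y : Ω} (hy : y ∈ orb H x) :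
    Nat.card ↥(H ⊓ stabilizer G y) = Nat.card ↥(H ⊓ stabilizer G x) := by
  have h1 := card_orb_mul H x
  have h2 := card_orb_mul H y
  rw [orb_eq hy, ← h1] at h2
  exact Nat.eq_of_mul_eq_mul_left (card_pos.mpr ⟨y, hy⟩) h2

theorem sum_orb (H : Subgroup G) (x : Ω) :
    ∑ y ∈ orb H x, Nat.card ↥(H ⊓ stabilizer G y) = Nat.card H := by
  rw [sum_congr rfl fun y hy => card_inf_of_orb hy, sum_const, smul_eq_mul, card_orb_mul]

variable [Fintype G]

theorem sum_filter_theta (H : Subgroup G) :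
    ∑ g ∈ univ.filter (· ∈ H), theta Ω g = ∑ x : Ω, Nat.card ↥(H ⊓ stabilizer G x) := by
  simp only [theta, fixp, card_filter]
  rw [sum_comm]
  refine sum_congr rfl fun x _ => ?_
  rw [← card_filter, Nat.card_eq_fintype_card, Fintype.card_of_subtype]
  intro g
  simp [Finset.mem_filter, mem_stabilizer_iff]

theorem card_stab (htr : IsPretransitive G Ω) (x : Ω) :
    Fintype.card Ω * Nat.card (stabilizer G x) = Nat.card G := by
  rw [← Nat.card_eq_fintype_card, ← index_stabilizer_of_transitive G x, mul_comm, Subgroup.card_mul_index]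

theorem sum_theta (htr : IsPretransitive G Ω) [Nonempty Ω] : ∑ g : G, theta Ω g = Nat.card G := by
  obtain ⟨x⟩ := ‹Nonempty Ω›
  have h := sum_filter_theta (Ω := Ω) (⊤ : Subgroup G)
  simp only [Subgroup.mem_top, filter_true, top_inf_eq] at h
  rw [h, ← card_stab htr x, sum_const_nat (m := Nat.card (stabilizer G x)) ?_, card_univ]
  intro y _
  exact Nat.eq_of_mul_eq_mul_left (Fintype.card_pos (α := Ω)) ((card_stab htr y).trans (card_stab htr x).symm)

theorem sum_theta_sq :
    ∑ g : G, theta Ω g * theta Ω g =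
      ∑ x : Ω, ∑ y : Ω, Nat.card ↥(stabilizer G x ⊓ stabilizer G y) := by
  rw [← sum_congr rfl fun x _ => sum_filter_theta (Ω := Ω) (stabilizer G x)]
  simp only [sum_filter]
  rw [sum_comm]
  refine sum_congr rfl fun g _ => ?_
  simp only [mem_stabilizer_iff, sum_ite, sum_const, smul_eq_mul, mul_zero, add_zero, sum_const_zero]
  rfl

/-- The correction term. -/
noncomputable def corr (g : G) : ℤ :=
  if theta Ω g = 0 then 0 else ((theta Ω g : ℤ) - 1) * ((Fintype.card Ω : ℤ) - theta Ω g)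

theorem theta_le (g : G) : theta Ω g ≤ Fintype.card Ω := card_le_univ _

theorem corr_nonneg (g : G) : 0 ≤ corr (Ω := Ω) g := by
  unfold corr
  split
  · exact le_rfl
  · exact mul_nonneg (by omega) (by have := theta_le (Ω := Ω) g; omega)

theorem derange_card :
    Nat.card {g : G // ∀ ω : Ω, g • ω ≠ ω} = (univ.filter fun g : G => theta Ω g = 0).card := by
  rw [Nat.card_eq_fintype_card, Fintype.card_of_subtype]
  intro g
  simp [theta, card_eq_zero, fixp, filter_eq_empty_iff]

theorem moment_identity (htr : IsPretransitive G Ω) [Nonempty Ω] :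
    (Fintype.card Ω : ℤ) * Nat.card {g : G // ∀ ω : Ω, g • ω ≠ ω} =
      (∑ g : G, ((theta Ω g : ℤ) * theta Ω g)) - Nat.card G + ∑ g : G, corr (Ω := Ω) g := by
  have e : ∀ g : G, (if theta Ω g = 0 then (Fintype.card Ω : ℤ) else 0) =
      (theta Ω g : ℤ) * theta Ω g - ((Fintype.card Ω : ℤ) + 1) * theta Ω g + Fintype.card Ω + corr (Ω := Ω) g := by
    intro g
    unfold corr
    by_cases h : theta Ω g = 0
    · simp [h]
    · rw [if_neg h, if_neg h]; ring
  rw [derange_card, card_filter, Nat.cast_sum, mul_sum]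
  rw [sum_congr rfl (g := fun g => (theta Ω g : ℤ) * theta Ω g - ((Fintype.card Ω : ℤ) + 1) * theta Ω g +
    Fintype.card Ω + corr (Ω := Ω) g) fun g _ => by rw [← e g]; split <;> simp]
  rw [sum_add_distrib, sum_add_distrib, sum_sub_distrib, ← mul_sum, sum_const, card_univ, ← Nat.cast_sum,
    sum_theta htr, Nat.card_eq_fintype_card, nsmul_eq_mul]
  ring

theorem twoT_of_point (htr : IsPretransitive G Ω) {x : Ω}
    (h : ∀ y z : Ω, y ≠ x → z ≠ x → ∃ g : G, g • x = x ∧ g • y = z) : TwoT G Ω := by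
  intro a b c d hab hcd
  obtain ⟨u, hu⟩ := exists_smul_eq G a x
  obtain ⟨v, hv⟩ := exists_smul_eq G c x
  obtain ⟨g, g1, g2⟩ := h (u • b) (v • d) (fun e => hab (smul_left_cancel u (hu.trans e.symm)))
    (fun e => hcd (smul_left_cancel v (hv.trans e.symm)))
  refine ⟨v⁻¹ * g * u, ?_, ?_⟩
  · rw [mul_smul, mul_smul, hu, g1, inv_smul_eq_iff, hv]
  · rw [mul_smul, mul_smul, g2, inv_smul_smul]

/-- At least three suborbits when not two-transitive. -/
theorem three_le_sum (htr : IsPretransitive G Ω) (h2 : ¬ TwoT G Ω) (x : Ω) :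
    3 * Nat.card (stabilizer G x) ≤ ∑ y : Ω, Nat.card ↥(stabilizer G x ⊓ stabilizer G y) := by
  obtain ⟨y, z, hy, hz, hyz⟩ : ∃ y z : Ω, y ≠ x ∧ z ≠ x ∧ z ∉ orb (stabilizer G x) y := by
    by_contra! hc
    exact h2 (twoT_of_point htr fun y z hy hz => by
      obtain ⟨g, hg, e⟩ := mem_orb.mp (hc y z hy hz)
      exact ⟨g, hg, e⟩)
  have hx : ∀ {w : Ω}, w ≠ x → x ∉ orb (stabilizer G x) w := fun {w} hw hm => by
    obtain ⟨g, hg, e⟩ := mem_orb.mp hm
    rw [← inv_smul_eq_iff.mpr hg.symm] at e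
    exact hw (smul_left_cancel g (e.trans (by rw [inv_smul_eq_iff.mpr hg.symm]; exact hg.symm)))
  have hself : ∀ w : Ω, w ∈ orb (stabilizer G x) w := fun w => mem_orb.mpr ⟨1, one_mem _, one_smul _ _⟩
  have d1 : ∀ {u w : Ω}, u ∉ orb (stabilizer G x) w → Disjoint (orb (stabilizer G x) w) (orb (stabilizer G x) u) :=
    fun {u w} hu => disjoint_left.mpr fun v hv hv' => hu (by rw [← orb_eq hv, orb_eq hv']; exact hself u)
  have dxy := d1 (hx hy)
  have dxz := d1 (hx hz)
  have dyz := d1 hyz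
  calc 3 * Nat.card (stabilizer G x)
      = ∑ w ∈ (orb (stabilizer G x) y ∪ orb (stabilizer G x) z) ∪ orb (stabilizer G x) x,
          Nat.card ↥(stabilizer G x ⊓ stabilizer G w) := by
        rw [sum_union (disjoint_union_left.mpr ⟨dxy, dxz⟩), sum_union dyz, sum_orb, sum_orb, sum_orb]; ring
    _ ≤ _ := sum_le_sum_of_subset (subset_univ _)

theorem not_twoT_bound (htr : IsPretransitive G Ω) (h2 : ¬ TwoT G Ω) [Nonempty Ω] :
    2 * Nat.card G ≤ Fintype.card Ω * Nat.card {g : G // ∀ ω : Ω, g • ω ≠ ω} := by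
  have h : 3 * Nat.card G ≤ ∑ g : G, theta Ω g * theta Ω g := by
    rw [sum_theta_sq]
    obtain ⟨x⟩ := ‹Nonempty Ω›
    calc 3 * Nat.card G = ∑ y : Ω, 3 * Nat.card (stabilizer G y) := by
          rw [← mul_sum, ← sum_theta htr]
          congr 1
          have h := sum_filter_theta (Ω := Ω) (⊤ : Subgroup G)
          simp only [Subgroup.mem_top, filter_true, top_inf_eq] at h
          exact h
      _ ≤ _ := sum_le_sum fun y _ => three_le_sum htr h2 y
  have := moment_identity (Ω := Ω) htr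
  have h0 : 0 ≤ ∑ g : G, corr (Ω := Ω) g := sum_nonneg fun g _ => corr_nonneg g
  zify at h ⊢
  linarith

end Cfsg.Agent.Classical.Derange
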