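import Cfsg.Agent.Lib.Classical.Derange.Moments

/-!
# Derangements in two-transitive groups

If `(2k - 1) ∑ |G_pqx| ≤ n k ^ 2`, `k = |G_pq|`, there are at least `2|G|/n` derangements.
-/

set_option autoImplicit false
set_option linter.unusedSectionVars false

namespace Cfsg.Agent.Classical.Derange

open Finset MulAction
open scoped _root_.Classical

variable {G Ω : Type*} [Group G] [Finite G] [MulAction G Ω] [Fintype Ω]

/-- The order of the stabiliser of three points. -/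
noncomputable def c3 (G : Type*) [Group G] [MulAction G Ω] (p q x : Ω) : ℕ :=
  Nat.card ↥((pst p q : Subgroup G) ⊓ stabilizer G x)

theorem card_orb_stab (h2 : TwoT G Ω) {p q : Ω} (hpq : p ≠ q) :
    (orb (stabilizer G p) q) = univ.erase p := by
  ext y
  rw [mem_orb, mem_erase]
  refine ⟨fun ⟨g, hg, e⟩ => ⟨fun hy => hpq ?_, mem_univ _⟩, fun ⟨hy, _⟩ => ?_⟩
  · exact smul_left_cancel g ((mem_stabilizer_iff.mp hg).trans (e.trans hy).symm)
  · obtain ⟨g, g1, g2⟩ := h2 p q p y hpq (Ne.symm hy)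
    exact ⟨g, g1, g2⟩

theorem card_pst (h2 : TwoT G Ω) {p q : Ω} (hpq : p ≠ q) :
    (Fintype.card Ω - 1) * Nat.card (pst p q : Subgroup G) = Nat.card (stabilizer G p) := by
  have h := card_orb_mul (stabilizer G p) q
  rwa [card_orb_stab h2 hpq, card_erase_of_mem (mem_univ _), card_univ] at h

theorem twoT_pretransitive (h2 : TwoT G Ω) : IsPretransitive G Ω := ⟨fun x y => by
  by_cases h : x = y
  · exact ⟨1, by rw [one_smul, h]⟩
  · obtain ⟨g, hg, -⟩ := h2 x y y x h (Ne.symm h)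
    exact ⟨g, hg⟩⟩

theorem card_pst_eq [Fintype G] (h2 : TwoT G Ω) {p q p' q' : Ω} (h : p ≠ q) (h' : p' ≠ q') :
    Nat.card (pst p q : Subgroup G) = Nat.card (pst p' q' : Subgroup G) := by
  have hn : 2 ≤ Fintype.card Ω := Fintype.one_lt_card_iff.mpr ⟨p, q, h⟩
  have htr := twoT_pretransitive h2
  have e := Nat.eq_of_mul_eq_mul_left (show 0 < Fintype.card Ω by omega)
    ((card_stab (G := G) htr p).trans (card_stab (G := G) htr p').symm)
  rw [← card_pst h2 h, ← card_pst h2 h'] at e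
  exact Nat.eq_of_mul_eq_mul_left (by omega) e

theorem c3_conj (g : G) (p q x : Ω) : c3 G (g • p) (g • q) (g • x) = c3 G p q x := by
  refine (Nat.card_congr ((MulAut.conj g).toEquiv.subtypeEquiv fun h => ?_)).symm
  have e : ∀ y : Ω, (g * h * g⁻¹) • (g • y) = g • y ↔ h • y = y := fun y => by
    rw [mul_smul, mul_smul, inv_smul_smul, smul_left_cancel_iff]
  simp only [Subgroup.mem_inf, mem_pst, mem_stabilizer_iff, MulEquiv.toEquiv_eq_coe, EquivLike.coe_coe,
    MulAut.conj_apply, e]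

variable [Fintype G]

/-- The weight of a nontrivial element of a two-point stabiliser. -/
noncomputable def phi (g : G) : ℚ := ((Fintype.card Ω : ℚ) - theta Ω g) / theta Ω g

theorem corr_eq (g : G) :
    (corr (Ω := Ω) g : ℚ) = ∑ pq ∈ (fixp (Ω := Ω) g).offDiag, phi (Ω := Ω) g := by
  rw [sum_const, offDiag_card, nsmul_eq_mul]
  show ((corr (Ω := Ω) g : ℤ) : ℚ) = ((theta Ω g * theta Ω g - theta Ω g : ℕ) : ℚ) * phi (Ω := Ω) g
  unfold corr phi
  by_cases h : theta Ω g = 0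
  · simp [h]
  · rw [if_neg h, Nat.cast_sub (Nat.le_mul_self _)]
    push_cast
    have : (theta Ω g : ℚ) ≠ 0 := by exact_mod_cast h
    field_simp

theorem sum_corr : ((∑ g : G, corr (Ω := Ω) g : ℤ) : ℚ) =
    ∑ pq ∈ (univ : Finset Ω).offDiag, ∑ g ∈ univ.filter (· ∈ (pst pq.1 pq.2 : Subgroup G)), phi (Ω := Ω) g := by
  push_cast
  simp only [corr_eq, sum_filter]
  rw [sum_comm (s := (univ : Finset Ω).offDiag)]
  refine sum_congr rfl fun g _ => ?_
  rw [← sum_filter]
  refine sum_congr ?_ fun _ _ => rfl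
  ext ⟨p, q⟩
  simp [mem_offDiag, mem_pst, mem_fixp]
  tauto

theorem phi_one : phi (Ω := Ω) (1 : G) = 0 := by
  simp [phi, theta, fixp, card_univ]

theorem good_pair (h2 : TwoT G Ω) {p q : Ω} (hpq : p ≠ q) {k : ℕ} (hk : Nat.card (pst p q : Subgroup G) = k)
    (hk2 : 2 ≤ k) (hgood : (2 * k - 1) * ∑ x, c3 G p q x ≤ Fintype.card Ω * k * k) :
    (k : ℚ) ≤ ∑ g ∈ univ.filter (· ∈ (pst p q : Subgroup G)), phi (Ω := Ω) g := by
  set s := (univ.filter (· ∈ (pst p q : Subgroup G))).erase 1 with hs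
  have h1 : (1 : G) ∈ univ.filter (· ∈ (pst p q : Subgroup G)) := mem_filter.mpr ⟨mem_univ _, one_mem _⟩
  have hcard : s.card = k - 1 := by
    rw [hs, card_erase_of_mem h1, ← hk, Nat.card_eq_fintype_card, ← Fintype.card_subtype]
  have hpos : ∀ g ∈ s, (0 : ℚ) < (theta Ω g : ℚ) := fun g hg => by
    have hg' : g ∈ (pst p q : Subgroup G) := (mem_filter.mp (mem_of_mem_erase hg)).2
    exact_mod_cast card_pos.mpr ⟨p, mem_fixp.mpr (mem_pst.mp hg').1⟩
  have hM : (∑ g ∈ s, (theta Ω g : ℚ)) + Fintype.card Ω = ((∑ x, c3 G p q x : ℕ) : ℚ) := by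
    have e : (∑ x, c3 G p q x) = ∑ g ∈ univ.filter (· ∈ (pst p q : Subgroup G)), theta Ω g :=
      (sum_filter_theta (pst p q)).symm
    rw [e, Nat.cast_sum, hs, ← sum_erase_add _ _ h1]
    simp [theta, fixp, card_univ]
  have hC := sq_sum_div_le_sum_sq_div s (fun _ => (1 : ℚ)) hpos
  simp only [sum_const, hcard, nsmul_eq_mul, mul_one, one_pow] at hC
  have hphi : ∑ g ∈ univ.filter (· ∈ (pst p q : Subgroup G)), phi (Ω := Ω) g =
      (Fintype.card Ω : ℚ) * (∑ g ∈ s, 1 / (theta Ω g : ℚ)) - (k - 1 : ℕ) := by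
    rw [hs, ← sum_erase_add _ _ h1, phi_one, add_zero, mul_sum, ← hs, ← hcard]
    rw [eq_sub_iff_add_eq, card_eq_sum_ones, Nat.cast_sum, ← sum_add_distrib]
    refine sum_congr rfl fun g hg => ?_
    have := (hpos g hg).ne'
    simp only [phi, Nat.cast_one]
    field_simp
    ring
  have hMpos : 0 < ∑ g ∈ s, (theta Ω g : ℚ) :=
    sum_pos hpos (card_pos.mp (by rw [hcard]; omega))
  rw [div_le_iff₀ hMpos] at hC
  rw [hphi]
  have hg' : ((2 * k - 1 : ℕ) : ℚ) * ((∑ x, c3 G p q x : ℕ) : ℚ) ≤ (Fintype.card Ω : ℚ) * k * k := by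
    exact_mod_cast hgood
  rw [Nat.cast_sub (by omega)] at hg'
  rw [Nat.cast_sub (by omega)] at hC ⊢
  push_cast at hg' hC ⊢
  set n : ℚ := (Fintype.card Ω : ℚ) with hn
  set A := ∑ g ∈ s, 1 / (theta Ω g : ℚ) with hA
  set M := ∑ g ∈ s, (theta Ω g : ℚ) with hM'
  push_cast at hM
  rw [← hM] at hg'
  have hn0 : 0 ≤ n := Nat.cast_nonneg _
  have key : (2 * (k : ℚ) - 1) * M ≤ n * A * M := by
    have := mul_le_mul_of_nonneg_left hC hn0
    nlinarith
  nlinarith [le_of_mul_le_mul_right key hMpos]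

theorem twoT_bound (h2 : TwoT G Ω) (hn : 2 ≤ Fintype.card Ω)
    (hgood : ∀ p q : Ω, p ≠ q → 2 ≤ Nat.card (pst p q : Subgroup G) ∧
      (2 * Nat.card (pst p q : Subgroup G) - 1) * ∑ x, c3 G p q x ≤
        Fintype.card Ω * Nat.card (pst p q : Subgroup G) * Nat.card (pst p q : Subgroup G)) :
    2 * Nat.card G ≤ Fintype.card Ω * Nat.card {g : G // ∀ ω : Ω, g • ω ≠ ω} := by
  haveI : Nonempty Ω := Fintype.card_pos_iff.mp (by omega)
  have htr := twoT_pretransitive h2
  have hS : (Nat.card G : ℚ) ≤ ((∑ g : G, corr (Ω := Ω) g : ℤ) : ℚ) := by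
    rw [sum_corr]
    calc (Nat.card G : ℚ) = ∑ pq ∈ (univ : Finset Ω).offDiag, (Nat.card (pst pq.1 pq.2 : Subgroup G) : ℚ) := by
          obtain ⟨a, b, hab⟩ := Fintype.one_lt_card_iff.mp (show 1 < Fintype.card Ω by omega)
          rw [sum_congr rfl fun pq hpq => by rw [card_pst_eq h2 (mem_offDiag.mp hpq).2.2 hab], sum_const,
            offDiag_card, card_univ, nsmul_eq_mul, ← Nat.cast_mul, ← card_stab htr a, ← card_pst h2 hab,
            ← Nat.mul_sub_one, mul_assoc]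
      _ ≤ _ := sum_le_sum fun pq hpq =>
          good_pair h2 (mem_offDiag.mp hpq).2.2 rfl (hgood _ _ (mem_offDiag.mp hpq).2.2).1 (hgood _ _ (mem_offDiag.mp hpq).2.2).2
  have hsq : Nat.card G ≤ ∑ g : G, theta Ω g * theta Ω g := by
    calc Nat.card G = ∑ g : G, theta Ω g := (sum_theta htr).symm
      _ ≤ _ := sum_le_sum fun g _ => Nat.le_mul_self _
  have h2le : 2 * Nat.card G ≤ ∑ g : G, theta Ω g * theta Ω g := by
    rw [sum_theta_sq]
    calc 2 * Nat.card G = ∑ x : Ω, 2 * Nat.card (stabilizer G x) := by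
          rw [← mul_sum, ← sum_theta htr]
          congr 1
          have h := sum_filter_theta (Ω := Ω) (⊤ : Subgroup G)
          simp only [Subgroup.mem_top, filter_true, top_inf_eq] at h
          exact h
      _ ≤ _ := sum_le_sum fun x _ => by
          rw [← sum_erase_add _ _ (mem_univ x), inf_idem]
          obtain ⟨y, hy⟩ := Fintype.exists_ne_of_one_lt_card (show 1 < Fintype.card Ω by omega) x
          rw [← card_orb_stab h2 (Ne.symm hy), sum_orb]
          omega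
  have hi := moment_identity (Ω := Ω) (G := G) htr
  have hS' : (Nat.card G : ℤ) ≤ ∑ g : G, corr (Ω := Ω) g := by exact_mod_cast hS
  zify at h2le ⊢
  linarith

end Cfsg.Agent.Classical.Derange
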